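import Mathlib

/-!
# Operators lowering the kernel filtration of a unipotent element

For `U` with `(U - 1) ^ (p - 2) = 0` over a field of characteristic `p`, the trace of any
operator over the powers of `U` lowers the filtration `ker (U - 1) ^ m` by two steps.
-/

set_option autoImplicit false

namespace Cfsg.Lib.HalfDeg

variable {k : Type*} [Field k] {M : Type*} [AddCommGroup M] [Module k M]

/-- `φ` lowers the filtration by kernels of powers of `D` by two. -/
def Low (D φ : Module.End k M) : Prop := ∀ (m : ℕ) (v : M), (D ^ m) v = 0 → (D ^ (m - 2)) (φ v) = 0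

variable {D φ ψ : Module.End k M}

theorem pow_kill_mono {a b : ℕ} (h : a ≤ b) {v : M} (hv : (D ^ a) v = 0) : (D ^ b) v = 0 := by
  obtain ⟨c, rfl⟩ := Nat.exists_eq_add_of_le h
  rw [add_comm, pow_add, Module.End.mul_apply, hv, map_zero]

theorem Low.zero : Low D (0 : Module.End k M) := fun m v _ => by simp

theorem Low.add (h1 : Low D φ) (h2 : Low D ψ) : Low D (φ + ψ) := fun m v hv => by
  rw [LinearMap.add_apply, map_add, h1 m v hv, h2 m v hv, add_zero]

theorem Low.neg (h1 : Low D φ) : Low D (-φ) := fun m v hv => by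
  rw [LinearMap.neg_apply, map_neg, h1 m v hv, neg_zero]

theorem Low.sub (h1 : Low D φ) (h2 : Low D ψ) : Low D (φ - ψ) := by
  rw [sub_eq_add_neg]; exact h1.add h2.neg

theorem Low.smul (c : k) (h1 : Low D φ) : Low D (c • φ) := fun m v hv => by
  rw [LinearMap.smul_apply, map_smul, h1 m v hv, smul_zero]

theorem Low.comp_right (h1 : Low D φ) (hψ : Commute ψ D) : Low D (φ * ψ) := fun m v hv => by
  rw [Module.End.mul_apply]
  refine h1 m _ ?_
  rw [← Module.End.mul_apply, ← (hψ.pow_right m).eq, Module.End.mul_apply, hv, map_zero]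

theorem Low.comp_left (h1 : Low D φ) (hψ : Commute ψ D) : Low D (ψ * φ) := fun m v hv => by
  rw [Module.End.mul_apply, ← Module.End.mul_apply, ← (hψ.pow_right (m - 2)).eq,
    Module.End.mul_apply, h1 m v hv, map_zero]

theorem Low.mul (h1 : Low D φ) (h2 : Low D ψ) : Low D (φ * ψ) := fun m v hv => by
  rw [Module.End.mul_apply]
  exact pow_kill_mono (by omega) (h1 _ _ (h2 m v hv))

theorem Low.pow_apply (h1 : Low D φ) (j m : ℕ) (v : M) (hv : (D ^ m) v = 0) :
    (D ^ (m - 2 * j)) ((φ ^ j) v) = 0 := by
  induction j with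
  | zero => simpa using hv
  | succ i ih =>
    rw [pow_succ', Module.End.mul_apply]
    exact pow_kill_mono (by omega) (h1 _ _ ih)

theorem Low.isNilpotent (h1 : Low D φ) {d : ℕ} (hd : D ^ d = 0) {j : ℕ} (hj : d ≤ 2 * j) :
    φ ^ j = 0 := by
  refine LinearMap.ext fun v => ?_
  have h := h1.pow_apply j d v (by rw [hd]; rfl)
  rw [show d - 2 * j = 0 by omega, pow_zero, Module.End.one_apply] at h
  exact h

theorem Low.apply_fixed (h1 : Low D φ) {v : M} (hv : D v = 0) : φ v = 0 := by
  have h := h1 1 v (by rwa [pow_one])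
  rwa [show 1 - 2 = 0 from rfl, pow_zero, Module.End.one_apply] at h

/-- The geometric sum of length the characteristic. -/
theorem geom_sum_eq_sub_one_pow {R : Type*} [Ring R] [Algebra k R] (p : ℕ) [hp : Fact p.Prime]
    [CharP k p] (x : R) : ∑ i ∈ Finset.range p, x ^ i = (x - 1) ^ (p - 1) := by
  haveI : CharP (Polynomial k) p := inferInstance
  have h : (∑ i ∈ Finset.range p, (Polynomial.X : Polynomial k) ^ i) =
      (Polynomial.X - 1) ^ (p - 1) := by
    have hne : (Polynomial.X - 1 : Polynomial k) ≠ 0 := by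
      simpa using Polynomial.X_sub_C_ne_zero (1 : k)
    refine mul_right_cancel₀ hne ?_
    rw [geom_sum_mul, ← pow_succ, Nat.sub_add_cancel hp.out.one_le, sub_pow_char, one_pow]
  have := congrArg (Polynomial.aeval x) h
  simpa using this

/-- The trace over the powers of a unipotent element lowers the filtration by two. -/
theorem low_trace (p : ℕ) [hp : Fact p.Prime] [CharP k p] {U : Module.End k M}
    (hU : U ^ p = 1) (hd : (U - 1) ^ (p - 2) = 0) (φ : Module.End k M) :
    Low (U - 1) (∑ i ∈ Finset.range p, U ^ i * φ * U ^ (p - i)) := by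
  set D := U - 1 with hD
  set U' := U ^ (p - 1) with hU'
  have hUU' : U * U' = 1 := by rw [hU', ← pow_succ', Nat.sub_add_cancel hp.out.one_le, hU]
  have hU'D : Commute U' D := ((Commute.refl U).pow_left _).sub_right (Commute.one_right _)
  have hUpow : ∀ i, i ≤ p → U ^ (p - i) = U' ^ i := by
    intro i hi
    induction i with
    | zero => rw [Nat.sub_zero, hU, pow_zero]
    | succ j ih =>
      have h2 : U ^ (p - j) = U * U ^ (p - (j + 1)) := by
        rw [← pow_succ', show p - (j + 1) + 1 = p - j by omega]
      calc U ^ (p - (j + 1)) = U' * (U * U ^ (p - (j + 1))) := by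
            rw [← mul_assoc, show U' * U = 1 by rw [hU', ← pow_succ, Nat.sub_add_cancel hp.out.one_le, hU],
              one_mul]
        _ = U' ^ (j + 1) := by rw [← h2, ih (by omega), pow_succ']
  let l : Module.End k (Module.End k M) := LinearMap.mulLeft k U
  let r : Module.End k (Module.End k M) := LinearMap.mulRight k U'
  let lD : Module.End k (Module.End k M) := LinearMap.mulLeft k D
  let rD : Module.End k (Module.End k M) := LinearMap.mulRight k D
  have hlr : Commute l r := LinearMap.ext fun x => by
    show U * (x * U') = U * x * U'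
    rw [mul_assoc]
  have hterm : ∀ i, i < p → U ^ i * φ * U ^ (p - i) = ((l * r) ^ i) φ := by
    intro i hi
    rw [hUpow i hi.le]
    clear hi
    induction i with
    | zero => simp
    | succ j ih =>
      rw [pow_succ' (l * r), Module.End.mul_apply, ← ih]
      show _ = U * (U ^ j * φ * U' ^ j * U')
      rw [pow_succ' U, pow_succ U']
      simp only [mul_assoc]
  rw [Finset.sum_congr rfl fun i hi => hterm i (Finset.mem_range.1 hi), ← LinearMap.sum_apply,
    geom_sum_eq_sub_one_pow (k := k) p (l * r)]
  have hfac : l * r - 1 = (lD - rD) * r := LinearMap.ext fun x => by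
    show U * (x * U') - x = D * (x * U') - x * U' * D
    rw [hD, sub_mul, mul_sub, one_mul, mul_one, mul_assoc x U' U,
      show U' * U = 1 by rw [hU', ← pow_succ, Nat.sub_add_cancel hp.out.one_le, hU], mul_one]
    abel
  have hcomm : Commute (lD - rD) r := by
    refine Commute.sub_left (LinearMap.ext fun x => ?_) (LinearMap.ext fun x => ?_)
    · show D * (x * U') = D * x * U'
      rw [mul_assoc]
    · show x * U' * D = x * D * U'
      rw [mul_assoc, hU'D.eq, ← mul_assoc]
  rw [hfac, hcomm.mul_pow, Module.End.mul_apply]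
  generalize (r ^ (p - 1)) φ = φ'
  have hc0 : Commute lD rD := LinearMap.ext fun x => by
    show D * (x * D) = D * x * D
    rw [mul_assoc]
  have hc2 : Commute lD (-rD) := hc0.neg_right
  rw [sub_eq_add_neg, hc2.add_pow, LinearMap.sum_apply]
  refine Finset.sum_induction _ (Low D) (fun a b => Low.add) Low.zero fun i hi => ?_
  have hval : (lD ^ i * (-rD) ^ (p - 1 - i) * ((p - 1).choose i : Module.End k (Module.End k M))) φ' =
      ((-1 : k) ^ (p - 1 - i) * ((p - 1).choose i : k)) • (D ^ i * φ' * D ^ (p - 1 - i)) := by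
    have hneg : (-rD) ^ (p - 1 - i) = ((-1 : k) ^ (p - 1 - i)) • rD ^ (p - 1 - i) := by
      rw [← smul_pow, neg_one_smul]
    rw [hneg, Algebra.mul_smul_comm, Algebra.smul_mul_assoc, LinearMap.smul_apply,
      show ((p - 1).choose i : Module.End k (Module.End k M)) =
        ((p - 1).choose i : k) • (1 : Module.End k (Module.End k M)) by
        rw [Nat.cast_smul_eq_nsmul, nsmul_eq_mul, mul_one],
      Algebra.mul_smul_comm, mul_one, LinearMap.smul_apply, smul_smul, Module.End.mul_apply,
      LinearMap.pow_mulLeft, LinearMap.pow_mulRight, LinearMap.mulLeft_apply,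
      LinearMap.mulRight_apply, mul_assoc]
  rw [hval]
  refine Low.smul _ fun m v hv => ?_
  rw [Module.End.mul_apply, Module.End.mul_apply]
  by_cases hm : m ≤ p - 1 - i
  · rw [pow_kill_mono hm hv, map_zero, map_zero, map_zero]
  · rw [← Module.End.mul_apply, ← pow_add]
    have := Finset.mem_range.1 hi
    rw [pow_eq_zero_of_le (show p - 2 ≤ m - 2 + i by omega) hd]
    rfl

/-- A sum over a finite set stable under a permutation of order `p` without fixed points. -/
theorem sum_induction_orbits {β : Type*} [AddCommMonoid β] {Q : Type*} [DecidableEq Q] (p : ℕ)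
    [hp : Fact p.Prime] (σ : Equiv.Perm Q) (hσ : σ ^ p = 1) (S : Finset Q)
    (hS : ∀ q, q ∈ S ↔ σ q ∈ S) (hfree : ∀ q ∈ S, σ q ≠ q) (F : Q → β) (Good : β → Prop)
    (h0 : Good 0) (hadd : ∀ a b, Good a → Good b → Good (a + b))
    (horb : ∀ q, Good (∑ i ∈ Finset.range p, F ((σ ^ i) q))) : Good (∑ q ∈ S, F q) := by
  induction S using Finset.strongInduction with
  | _ S ih =>
    rcases S.eq_empty_or_nonempty with rfl | ⟨q, hq⟩
    · simpa using h0
    have hpow : ∀ (i : ℕ) (x : Q), x ∈ S ↔ (σ ^ i) x ∈ S := by
      intro i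
      induction i with
      | zero => intro x; simp
      | succ j hj => intro x; rw [pow_succ', Equiv.Perm.mul_apply, ← hS, hj x]
    have hinj : Set.InjOn (fun i => (σ ^ i) q) (Finset.range p : Set ℕ) := by
      intro i hi j hj hij
      simp only [Finset.coe_range, Set.mem_Iio] at hi hj
      have hper : Function.IsPeriodicPt σ p q := by
        show σ^[p] q = q
        rw [← Equiv.Perm.coe_pow, hσ]; rfl
      have hmp : Function.minimalPeriod σ q = p := by
        refine ((Nat.dvd_prime hp.out).1 hper.minimalPeriod_dvd).resolve_left fun h => hfree q hq ?_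
        exact Function.minimalPeriod_eq_one_iff_isFixedPt.1 h
      simp only [Equiv.Perm.coe_pow] at hij
      exact (Function.iterate_eq_iterate_iff_of_lt_minimalPeriod (by omega) (by omega)).1 hij
    set O := (Finset.range p).image fun i => (σ ^ i) q with hO
    have hOS : O ⊆ S := by
      intro x hx
      obtain ⟨i, -, rfl⟩ := Finset.mem_image.1 hx
      exact (hpow i q).1 hq
    have hOmem : ∀ x, x ∈ O ↔ σ x ∈ O := by
      have hmodmem : ∀ i : ℕ, (σ ^ i) q ∈ O := fun i => Finset.mem_image.2
        ⟨i % p, Finset.mem_range.2 (Nat.mod_lt _ hp.out.pos), by rw [← pow_eq_pow_mod i hσ]⟩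
      intro x
      constructor
      · intro hx
        obtain ⟨i, -, rfl⟩ := Finset.mem_image.1 hx
        rw [← Equiv.Perm.mul_apply, ← pow_succ']
        exact hmodmem _
      · intro hx
        obtain ⟨i, -, hi⟩ := Finset.mem_image.1 hx
        have : x = (σ ^ (i + (p - 1))) q := by
          have h2 : σ ^ (p - 1) * σ = 1 := by rw [← pow_succ, Nat.sub_add_cancel hp.out.one_le, hσ]
          rw [add_comm, pow_add, Equiv.Perm.mul_apply, hi, ← Equiv.Perm.mul_apply, h2, Equiv.Perm.one_apply]
        rw [this]
        exact hmodmem _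
    rw [← Finset.sum_sdiff hOS]
    refine hadd _ _ (ih _ (Finset.sdiff_ssubset hOS
        ⟨q, Finset.mem_image.2 ⟨0, Finset.mem_range.2 hp.out.pos, by simp⟩⟩)
      (fun x => by simp only [Finset.mem_sdiff, ← hS, ← hOmem]) (fun x hx => hfree x (Finset.mem_sdiff.1 hx).1)) ?_
    rw [hO, Finset.sum_image hinj]
    exact horb q

end Cfsg.Lib.HalfDeg
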