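import Mathlib
import Cfsg.Agent.Lib.Block.SmallFixed

/-!
# Reduction of a complex representation modulo `p`
-/

set_option autoImplicit false
set_option linter.unusedSectionVars false
set_option linter.style.haveILetI false

namespace Cfsg.Lib.HalfDeg

open Matrix

/-- A finitely generated module over a valuation ring inside a vector space has a basis which is
a basis of the space it spans. -/
theorem exists_lattice_basis {K : Type*} [Field K] (V : ValuationSubring K) {W : Type*}
    [AddCommGroup W] [Module K W] [FiniteDimensional K W] (s : Finset W)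
    (hs : Submodule.span K (s : Set W) = ⊤) :
    ∃ b : Module.Basis (Fin (Module.finrank K W)) K W,
      (∀ i, b i ∈ Submodule.span V (s : Set W)) ∧
      ∀ w ∈ Submodule.span V (s : Set W), ∀ i, b.repr w i ∈ V := by
  classical
  set L := Submodule.span V (s : Set W)
  have hex : ∃ m, ∃ t : Finset W, t.card = m ∧ Submodule.span V (t : Set W) = L := ⟨_, s, rfl, rfl⟩
  obtain ⟨t, htc, htL⟩ := Nat.find_spec hex
  have hmin : ∀ t' : Finset W, Submodule.span V (t' : Set W) = L → t.card ≤ t'.card := fun t' h => by
    rw [htc]; exact Nat.find_min' hex ⟨t', rfl, h⟩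
  have hli : LinearIndepOn K id (t : Set W) := by
    rw [linearIndepOn_finset_iff]
    intro c hc w hw
    by_contra hne
    have htne : (t.filter fun x => c x ≠ 0).Nonempty := ⟨w, Finset.mem_filter.2 ⟨hw, hne⟩⟩
    obtain ⟨x0, hx0, hmax⟩ := Finset.exists_max_image (t.filter fun x => c x ≠ 0)
      (fun x => V.valuation (c x)) htne
    rw [Finset.mem_filter] at hx0
    have hmem : ∀ x ∈ t, -(c x / c x0) ∈ V := by
      intro x hx
      refine V.neg_mem _ ((V.valuation_le_one_iff _).1 ?_)
      rw [map_div₀, div_le_one₀ ((Valuation.pos_iff _).2 hx0.2)]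
      by_cases h0 : c x = 0
      · simp [h0]
      · exact hmax x (Finset.mem_filter.2 ⟨hx, h0⟩)
    have hx0eq : x0 = ∑ x ∈ t.erase x0, (-(c x / c x0)) • x := by
      rw [← Finset.add_sum_erase _ _ hx0.1] at hc
      have h : x0 + ∑ x ∈ t.erase x0, (c x / c x0) • x = 0 := by
        have := congrArg ((c x0)⁻¹ • ·) hc
        simp only [smul_add, Finset.smul_sum, smul_zero, smul_smul, id, inv_mul_cancel₀ hx0.2, one_smul] at this
        simpa [div_eq_inv_mul] using this
      refine (eq_neg_of_add_eq_zero_left h).trans ?_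
      rw [← Finset.sum_neg_distrib]
      simp [neg_smul]
    have hspan : Submodule.span V ((t.erase x0 : Finset W) : Set W) = L := by
      rw [← htL]
      refine le_antisymm (Submodule.span_mono (Finset.coe_subset.2 (Finset.erase_subset _ _))) ?_
      rw [Submodule.span_le]
      intro x hx
      by_cases hxe : x = x0
      · rw [hxe, SetLike.mem_coe]
        refine (congrArg (· ∈ Submodule.span V ((t.erase x0 : Finset W) : Set W)) hx0eq).mpr ?_
        refine Submodule.sum_mem _ fun y hy => ?_
        have e : (⟨_, hmem y (Finset.mem_of_mem_erase hy)⟩ : V) • y = (-(c y / c x0)) • y := rfl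
        rw [← e]
        exact Submodule.smul_mem _ _ (Submodule.subset_span (Finset.mem_coe.2 hy))
      · exact Submodule.subset_span (Finset.mem_erase.2 ⟨hxe, hx⟩)
    exact absurd (hmin _ hspan) (by rw [Finset.card_erase_of_mem hx0.1]; have := Finset.card_pos.2 ⟨x0, hx0.1⟩; omega)
  have hspanK : Submodule.span K (t : Set W) = ⊤ := by
    rw [eq_top_iff, ← hs, Submodule.span_le]
    intro x hx
    have hxL : x ∈ Submodule.span V (t : Set W) := htL ▸ Submodule.subset_span hx
    exact Submodule.span_le_restrictScalars V K (t : Set W) hxL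
  let b0 : Module.Basis (t : Set W) K W := Module.Basis.mk hli.linearIndependent (by
    rw [show Set.range (fun x : (t : Set W) => id (x : W)) = (t : Set W) by simp, hspanK])
  have hcard : Fintype.card (t : Set W) = Module.finrank K W := (Module.finrank_eq_card_basis b0).symm
  let e := Fintype.equivFinOfCardEq hcard
  have hb0 : ∀ x, b0 x = (x : W) := fun x => by simp [b0]
  refine ⟨b0.reindex e, fun i => ?_, fun w hw i => ?_⟩
  · rw [Module.Basis.reindex_apply, hb0, ← htL]
    exact Submodule.subset_span (e.symm i).2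
  · rw [Module.Basis.repr_reindex_apply]
    rw [← htL] at hw
    induction hw using Submodule.span_induction with
    | mem x hx =>
      have e0 : b0 ⟨x, hx⟩ = x := hb0 _
      rw [← e0, Module.Basis.repr_self, Finsupp.single_apply]
      split
      exacts [V.one_mem, V.zero_mem]
    | zero => simp
    | add x y _ _ hx hy => rw [map_add, Finsupp.add_apply]; exact V.add_mem _ _ hx hy
    | smul c x _ hx =>
      rw [show c • x = (c : K) • x from rfl, map_smul, Finsupp.smul_apply, smul_eq_mul]
      exact V.mul_mem _ _ c.2 hx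

variable {p : ℕ} [hp : Fact p.Prime] {G : Type*} [Group G] [Finite G]

/-- A faithful complex representation reduces to a representation in characteristic `p` whose
kernel consists of `p`-elements. -/
theorem exists_modp_rep {n : ℕ} (ρ : G →* Module.End ℂ (Fin n → ℂ)) (hρ : Function.Injective ρ) :
    ∃ (k : Type) (_ : Field k) (_ : CharP k p) (_ : IsAlgClosed k)
      (ρ' : G →* Module.End k (Fin n → k)),
      ∀ g : G, ρ' g = 1 → ∃ j : ℕ, g ^ p ^ j = 1 := by
  classical
  haveI : Fintype G := Fintype.ofFinite G
  obtain ⟨V, hV⟩ := Cfsg.Lib.Block.exists_valuationSubring_natCast p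
  set m := IsLocalRing.maximalIdeal V
  let k0 := IsLocalRing.ResidueField V
  haveI : CharP k0 p := by
    have hpm : (p : V) ∈ m := by
      rw [← ValuationSubring.coe_mem_nonunits_iff]
      simpa using hV
    refine (CharP.charP_iff_prime_eq_zero hp.out).mpr ?_
    rw [← map_natCast (IsLocalRing.residue V), IsLocalRing.residue_eq_zero_iff]
    exact hpm
  haveI : CharP (AlgebraicClosure k0) p := charP_of_injective_algebraMap (algebraMap k0 _).injective p
  let s : Finset (Fin n → ℂ) := Finset.univ.image fun x : G × Fin n => ρ x.1 (Pi.single x.2 1)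
  have hs : Submodule.span ℂ (s : Set (Fin n → ℂ)) = ⊤ := by
    rw [eq_top_iff, ← (Pi.basisFun ℂ (Fin n)).span_eq, Submodule.span_le]
    rintro _ ⟨i, rfl⟩
    refine Submodule.subset_span (Finset.mem_image.2 ⟨(1, i), Finset.mem_univ _, ?_⟩)
    simp
  obtain ⟨b', hb'L, hb'V⟩ := exists_lattice_basis V s hs
  have hfr : Module.finrank ℂ (Fin n → ℂ) = n := by simp
  let b := b'.reindex (finCongr hfr)
  have hLinv : ∀ g, ∀ w ∈ Submodule.span V (s : Set (Fin n → ℂ)),
      ρ g w ∈ Submodule.span V (s : Set (Fin n → ℂ)) := by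
    intro g w hw
    induction hw using Submodule.span_induction with
    | mem x hx =>
      obtain ⟨⟨h, i⟩, -, rfl⟩ := Finset.mem_image.1 hx
      refine Submodule.subset_span (Finset.mem_image.2 ⟨(g * h, i), Finset.mem_univ _, ?_⟩)
      rw [map_mul]; rfl
    | zero => simp
    | add x y _ _ hx hy => rw [map_add]; exact add_mem hx hy
    | smul c x _ hx =>
      rw [show c • x = (c : ℂ) • x from rfl, map_smul]
      exact Submodule.smul_mem _ c hx
  have hentry : ∀ g i j, LinearMap.toMatrixAlgEquiv b (ρ g) i j ∈ V := by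
    intro g i j
    rw [LinearMap.toMatrixAlgEquiv_apply, Module.Basis.repr_reindex_apply, Module.Basis.reindex_apply]
    exact hb'V _ (hLinv g _ (hb'L _)) _
  let R : G →* Matrix (Fin n) (Fin n) V :=
    { toFun := fun g => Matrix.of fun i j => (⟨_, hentry g i j⟩ : V)
      map_one' := by
        ext i j
        show LinearMap.toMatrixAlgEquiv b (ρ 1) i j = (((1 : Matrix (Fin n) (Fin n) V) i j : V) : ℂ)
        rw [map_one, map_one, Matrix.one_apply, Matrix.one_apply]
        split <;> simp
      map_mul' := fun g h => by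
        ext i j
        show LinearMap.toMatrixAlgEquiv b (ρ (g * h)) i j = _
        rw [map_mul, map_mul]
        simp [Matrix.mul_apply] }
  have hRinj : Function.Injective R := by
    intro g h e
    refine hρ ((LinearMap.toMatrixAlgEquiv b).injective ?_)
    ext i j
    exact congrArg Subtype.val (congrFun (congrFun e i) j)
  let φ : V →+* AlgebraicClosure k0 := (algebraMap k0 (AlgebraicClosure k0)).comp (IsLocalRing.residue V)
  let R' : G →* Module.End (AlgebraicClosure k0) (Fin n → AlgebraicClosure k0) :=
    (Matrix.toLinAlgEquiv' : Matrix (Fin n) (Fin n) (AlgebraicClosure k0) ≃ₐ[_] _).toMonoidHom.comp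
      ((φ.mapMatrix : Matrix (Fin n) (Fin n) V →+* _).toMonoidHom.comp R)
  refine ⟨AlgebraicClosure k0, inferInstance, inferInstance, inferInstance, R', fun g hg => ?_⟩
  by_contra hcon
  push Not at hcon
  obtain ⟨r, hr, hrp, hrd⟩ : ∃ r, r.Prime ∧ r ≠ p ∧ r ∣ orderOf g := by
    by_contra h
    push Not at h
    obtain ⟨j, hj⟩ : ∃ j, orderOf g = p ^ j := ⟨_, Nat.eq_prime_pow_of_unique_prime_dvd
      (orderOf_pos g).ne' fun {r} hr hd => by_contra fun hne => h r hr hne hd⟩
    exact hcon j (by rw [← hj, pow_orderOf_eq_one])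
  set x := g ^ (orderOf g / r) with hx
  have hxo : orderOf x = r := orderOf_pow_orderOf_div (orderOf_pos g).ne' hrd
  have hx' : R' x = 1 := by rw [hx, map_pow, hg, one_pow]
  have hφ : φ.mapMatrix (R x) = 1 := Matrix.toLinAlgEquiv'.injective (hx'.trans (map_one _).symm)
  set Z := R x - 1 with hZ
  have hZφ : φ.mapMatrix Z = 0 := by rw [hZ, map_sub, hφ, map_one, sub_self]
  have hgeom : (∑ i ∈ Finset.range r, (R x) ^ i) * Z = 0 := by
    rw [hZ, geom_sum_mul, ← map_pow, ← hxo, pow_orderOf_eq_one, map_one, sub_self]
  have hunit : IsUnit (∑ i ∈ Finset.range r, (R x) ^ i) := by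
    rw [Matrix.isUnit_iff_isUnit_det]
    have hdet : φ (∑ i ∈ Finset.range r, (R x) ^ i).det ≠ 0 := by
      rw [RingHom.map_det, map_sum]
      simp only [map_pow, hφ, one_pow, Finset.sum_const, Finset.card_range, nsmul_one]
      rw [← Matrix.diagonal_natCast, Matrix.det_diagonal, Finset.prod_const]
      refine pow_ne_zero _ fun e => hrp ?_
      exact ((Nat.prime_dvd_prime_iff_eq hp.out hr).1 ((CharP.cast_eq_zero_iff _ p r).1 e)).symm
    by_contra hu
    refine hdet ?_
    show algebraMap k0 _ (IsLocalRing.residue V _) = 0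
    rw [(IsLocalRing.residue_eq_zero_iff _).2 ((IsLocalRing.mem_maximalIdeal _).2 hu), map_zero]
  have hZ0 : Z = 0 := by
    obtain ⟨u, hu⟩ := hunit
    rw [← hu] at hgeom
    exact u.mul_right_eq_zero.1 hgeom
  have : x = 1 := hRinj (by rw [map_one]; exact sub_eq_zero.1 hZ0)
  rw [this, orderOf_one] at hxo
  exact hr.ne_one hxo.symm

end Cfsg.Lib.HalfDeg
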