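import Mathlib

/-!
# Nilpotent operators of small index in characteristic `p`

For a nilpotent `N` of index at most `(p - 1) / 2` there is `y` with `[N, [N, y]] = N`, and if
`N ≠ 0` there is `z` with `[N, [N, [N, z]]] = 0` and `tr (N z) ≠ 0` while `tr (N ^ 2 g z) = 0` for
`g` commuting with `N`.
-/

set_option autoImplicit false
set_option linter.unusedSectionVars false

namespace Cfsg.Lib.HalfDeg

variable {k : Type*} [Field k]

/-- The commutator with `N`. -/
def adN {V : Type*} [AddCommGroup V] [Module k V] (N : Module.End k V) :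
    Module.End k (Module.End k V) := LinearMap.mulLeft k N - LinearMap.mulRight k N

theorem adN_apply {V : Type*} [AddCommGroup V] [Module k V] (N x : Module.End k V) :
    adN N x = N * x - x * N := rfl

theorem adN_mul_commute {V : Type*} [AddCommGroup V] [Module k V] {N x s : Module.End k V}
    (hs : Commute s N) : adN N (x * s) = adN N x * s := by
  rw [adN_apply, adN_apply, sub_mul, mul_assoc, mul_assoc, mul_assoc, hs.eq]

/-- A functional extracting the last vector of a cyclic chain. -/
theorem exists_top_functional {V : Type*} [AddCommGroup V] [Module k V]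
    (N : Module.End k V) {a : ℕ} (ha : N ^ a = 0) (hpos : 0 < a) {v : V}
    (hv : (N ^ (a - 1)) v ≠ 0) :
    ∃ ψ : V →ₗ[k] k, ψ ((N ^ (a - 1)) v) = 1 ∧ ∀ j, j ≠ a - 1 → ψ ((N ^ j) v) = 0 := by
  classical
  have hli : LinearIndependent k (fun i : Fin a => (N ^ (i : ℕ)) v) := by
    rw [Fintype.linearIndependent_iff]
    intro c hc
    by_contra hne
    push Not at hne
    obtain ⟨i0, hi0, hmin⟩ := Finset.exists_min_image
      (Finset.univ.filter fun i : Fin a => c i ≠ 0) id
      (by obtain ⟨i, hi⟩ := hne; exact ⟨i, by simpa using hi⟩)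
    simp only [Finset.mem_filter, Finset.mem_univ, true_and, id] at hi0 hmin
    have h := congrArg (N ^ (a - 1 - (i0 : ℕ))) hc
    rw [map_sum, map_zero, Finset.sum_eq_single i0] at h
    · rw [map_smul, ← Module.End.mul_apply, ← pow_add,
        show a - 1 - (i0 : ℕ) + (i0 : ℕ) = a - 1 by omega, smul_eq_zero] at h
      exact h.elim hi0 hv
    · intro i _ hi
      by_cases hci : c i = 0
      · rw [hci, zero_smul, map_zero]
      · rw [map_smul, ← Module.End.mul_apply, ← pow_add]
        have : (i0 : ℕ) < i := lt_of_le_of_ne (hmin i hci) (fun e => hi (Fin.ext e).symm)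
        rw [pow_eq_zero_of_le (by omega : a ≤ _) ha, LinearMap.zero_apply, smul_zero]
    · intro h'; exact absurd (Finset.mem_univ _) h'
  set S := Submodule.span k (Set.range fun i : Fin a => (N ^ (i : ℕ)) v)
  let B := Module.Basis.span hli
  obtain ⟨ψ, hψ⟩ := LinearMap.exists_extend (B.coord ⟨a - 1, by omega⟩)
  have happ : ∀ (j : ℕ) (hj : j < a), ψ ((N ^ j) v) = if j = a - 1 then 1 else 0 := by
    intro j hj
    have h := LinearMap.congr_fun hψ (B ⟨j, hj⟩)
    have hB : ((B ⟨j, hj⟩ : S) : V) = (N ^ j) v :=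
      congrArg Subtype.val (Module.Basis.span_apply hli _)
    simp only [LinearMap.comp_apply, Submodule.subtype_apply, Module.Basis.coord_apply,
      Module.Basis.repr_self, Finsupp.single_apply] at h
    rw [← hB, h]
    simp [Fin.ext_iff]
  refine ⟨ψ, by rw [happ _ (by omega), if_pos rfl], fun j hj => ?_⟩
  by_cases hja : j < a
  · rw [happ j hja, if_neg hj]
  · rw [pow_eq_zero_of_le (by omega : a ≤ j) ha, LinearMap.zero_apply, map_zero]

/-- The coefficient of the standard lowering operator on a cyclic chain. -/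
def mu (a : ℕ) (i : ℕ) : k := (2⁻¹ : k) * ((i : k) * ((i : k) - (a : k)))

/-- The data attached to a longest cyclic chain. -/
theorem exists_block (p : ℕ) [hp : Fact p.Prime] [CharP k p] (h2 : (2 : k) ≠ 0) {V : Type*}
    [AddCommGroup V] [Module k V] [FiniteDimensional k V] (N : Module.End k V) {b : ℕ}
    (hb : N ^ b = 0) (hbp : 2 * b < p) (hN : N ≠ 0) :
    ∃ π z : Module.End k V, IsIdempotentElem π ∧ Commute π N ∧ π ≠ 0 ∧
      adN N (adN N z) = N * π ∧ adN N (N * π) = 0 ∧ LinearMap.trace k V (N * z) ≠ 0 ∧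
      ∀ g : Module.End k V, Commute g N → LinearMap.trace k V (N ^ 2 * g * z) = 0 := by
  classical
  obtain ⟨a, ha⟩ : ∃ a, N ^ a = 0 ∧ ∀ m < a, N ^ m ≠ 0 :=
    ⟨Nat.find ⟨b, hb⟩, Nat.find_spec (p := fun m => N ^ m = 0) ⟨b, hb⟩,
      fun m hm => Nat.find_min (p := fun m => N ^ m = 0) ⟨b, hb⟩ hm⟩
  have hab : a ≤ b := by
    by_contra hlt
    exact ha.2 b (by omega) hb
  have ha2 : 2 ≤ a := by
    by_contra hlt
    refine hN ?_
    have := pow_eq_zero_of_le (show a ≤ 1 by omega) ha.1
    rwa [pow_one] at this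
  obtain ⟨v, hv⟩ : ∃ v, (N ^ (a - 1)) v ≠ 0 := by
    by_contra h
    push Not at h
    exact ha.2 (a - 1) (by omega) (LinearMap.ext h)
  obtain ⟨ψ, hψ1, hψ0⟩ := exists_top_functional N ha.1 (by omega) hv
  let c : ℕ → V := fun i => (N ^ i) v
  let φ : ℕ → (V →ₗ[k] k) := fun i => ψ.comp (N ^ (a - 1 - i))
  have hφc : ∀ i j, i < a → φ i (c j) = if i = j then 1 else 0 := by
    intro i j hi
    show ψ ((N ^ (a - 1 - i)) ((N ^ j) v)) = _
    rw [← Module.End.mul_apply, ← pow_add]
    by_cases hij : i = j
    · rw [if_pos hij, show a - 1 - i + j = a - 1 by omega, hψ1]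
    · rw [if_neg hij, hψ0 _ (by omega)]
  have hNc : ∀ i, N (c i) = c (i + 1) := fun i => by
    show N ((N ^ i) v) = _
    rw [← Module.End.mul_apply, ← pow_succ']
  have hca : c a = 0 := by show (N ^ a) v = 0; rw [ha.1]; rfl
  have hφN : ∀ i, i + 1 < a → φ (i + 1) ∘ₗ N = φ i := fun i hi => by
    show ψ.comp (N ^ (a - 1 - (i + 1))) ∘ₗ N = ψ.comp (N ^ (a - 1 - i))
    rw [LinearMap.comp_assoc, show a - 1 - i = a - 1 - (i + 1) + 1 by omega, pow_succ]
    rfl
  have hφ0 : φ 0 ∘ₗ N = 0 := by
    show ψ.comp (N ^ (a - 1 - 0)) ∘ₗ N = 0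
    rw [LinearMap.comp_assoc, ← Module.End.mul_eq_comp (N ^ _) N, ← pow_succ,
      pow_eq_zero_of_le (by omega : a ≤ _) ha.1, LinearMap.comp_zero]
  -- rank one operators
  let R : ℕ → ℕ → Module.End k V := fun i j => (φ i).smulRight (c j)
  have hNR : ∀ i j, N * R i j = R i (j + 1) := fun i j => LinearMap.ext fun w => by
    show N (φ i w • c j) = φ i w • c (j + 1)
    rw [map_smul, hNc]
  have hRN : ∀ i j, i + 1 < a → R (i + 1) j * N = R i j := fun i j hi => LinearMap.ext fun w => by
    show φ (i + 1) (N w) • c j = φ i w • c j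
    rw [← LinearMap.comp_apply, hφN i hi]
  have hR0 : ∀ j, R 0 j * N = 0 := fun j => LinearMap.ext fun w => by
    show φ 0 (N w) • c j = 0
    rw [← LinearMap.comp_apply, hφ0, LinearMap.zero_apply, zero_smul]
  have hRa : ∀ i, R i a = 0 := fun i => LinearMap.ext fun w => by
    show φ i w • c a = 0
    rw [hca, smul_zero]
  have hshift : ∀ (f : ℕ → ℕ) (w : ℕ → k), (∑ i ∈ Finset.range a, w i • R i (f i)) * N =
      ∑ i ∈ Finset.range (a - 1), w (i + 1) • R i (f (i + 1)) := by
    intro f w
    obtain ⟨a', rfl⟩ : ∃ a', a = a' + 1 := ⟨a - 1, by omega⟩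
    rw [Nat.add_sub_cancel, Finset.sum_mul, Finset.sum_range_succ', smul_mul_assoc, hR0, smul_zero,
      add_zero]
    refine Finset.sum_congr rfl fun i hi => ?_
    rw [smul_mul_assoc, hRN i _ (by have := Finset.mem_range.1 hi; omega)]
  set π : Module.End k V := ∑ i ∈ Finset.range a, R i i with hπ
  set z : Module.End k V := ∑ i ∈ Finset.range a, mu (k := k) a i • R i (i - 1) with hz
  have hNπ : N * π = ∑ i ∈ Finset.range a, R i (i + 1) := by
    rw [hπ, Finset.mul_sum]; simp only [hNR]
  have hπN : π * N = ∑ i ∈ Finset.range (a - 1), R i (i + 1) := by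
    have := hshift id fun _ => 1
    simpa [hπ] using this
  have hcomm : Commute π N := by
    show π * N = N * π
    rw [hπN, hNπ]
    obtain ⟨a', rfl⟩ : ∃ a', a = a' + 1 := ⟨a - 1, by omega⟩
    rw [Nat.add_sub_cancel, Finset.sum_range_succ, hRa, add_zero]
  have hidem : IsIdempotentElem π := LinearMap.ext fun w => by
    show π (π w) = π w
    simp only [hπ, LinearMap.sum_apply]
    refine Finset.sum_congr rfl fun i hi => ?_
    show φ i (∑ j ∈ Finset.range a, φ j w • c j) • c i = φ i w • c i
    rw [map_sum, Finset.sum_eq_single i]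
    · rw [map_smul, hφc i i (Finset.mem_range.1 hi), if_pos rfl, smul_eq_mul, mul_one]
    · intro j _ hj
      rw [map_smul, hφc i j (Finset.mem_range.1 hi), if_neg (Ne.symm hj), smul_zero]
    · intro h; exact absurd hi h
  have hπ0 : π ≠ 0 := fun h => hv (by
    have h1 : π (c (a - 1)) = 0 := by rw [h]; rfl
    simp only [hπ, LinearMap.sum_apply] at h1
    rw [Finset.sum_eq_single (a - 1)] at h1
    · change φ (a - 1) (c (a - 1)) • c (a - 1) = 0 at h1
      rwa [hφc _ _ (by omega), if_pos rfl, one_smul] at h1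
    · intro j hj hne
      show φ j (c (a - 1)) • c j = 0
      rw [hφc _ _ (Finset.mem_range.1 hj), if_neg hne, zero_smul]
    · intro h'; exact absurd (Finset.mem_range.2 (by omega)) h')
  have hmu0 : mu (k := k) a 0 = 0 := by simp [mu]
  have hmua : mu (k := k) a a = 0 := by simp [mu]
  have hNz : N * z = ∑ i ∈ Finset.range a, mu (k := k) a i • R i i := by
    rw [hz, Finset.mul_sum]
    refine Finset.sum_congr rfl fun i _ => ?_
    rw [mul_smul_comm, hNR]
    rcases Nat.eq_zero_or_pos i with rfl | h
    · rw [hmu0, zero_smul, zero_smul]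
    · rw [Nat.sub_add_cancel h]
  have had1 : adN N z = ∑ i ∈ Finset.range a, (mu (k := k) a i - mu a (i + 1)) • R i i := by
    rw [adN_apply, hNz, hz, hshift]
    simp only [Nat.add_sub_cancel, sub_smul, Finset.sum_sub_distrib]
    congr 1
    obtain ⟨a', rfl⟩ : ∃ a', a = a' + 1 := ⟨a - 1, by omega⟩
    rw [Nat.add_sub_cancel, Finset.sum_range_succ, hmua, zero_smul, add_zero]
  have had2 : adN N (adN N z) = N * π := by
    rw [had1, adN_apply, Finset.mul_sum, hshift (fun i => i) (fun i => mu a i - mu a (i + 1)), hNπ]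
    obtain ⟨a', rfl⟩ : ∃ a', a = a' + 1 := ⟨a - 1, by omega⟩
    simp only [mul_smul_comm, hNR, Nat.add_sub_cancel]
    rw [Finset.sum_range_succ (fun i => _ • R i (i + 1)), Finset.sum_range_succ (fun i => R i (i + 1)),
      hRa, smul_zero, add_zero, add_zero, ← Finset.sum_sub_distrib]
    refine Finset.sum_congr rfl fun i _ => ?_
    rw [← sub_smul]
    conv_rhs => rw [← one_smul k (R i (i + 1))]
    congr 1
    simp only [mu]
    push_cast
    field_simp
    ring
  have had3 : adN N (N * π) = 0 := by
    rw [adN_apply, mul_assoc, hcomm.eq, sub_self]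
  have htr : ∀ i j, LinearMap.trace k V (R i j) = φ i (c j) := fun i j =>
    LinearMap.trace_smulRight (φ i) (c j)
  refine ⟨π, z, hidem, hcomm, hπ0, had2, had3, ?_, ?_⟩
  · rw [hNz, map_sum]
    have hs : ∀ m, (6 : k) * ∑ i ∈ Finset.range m, (2 : k) * mu a i =
        (m : k) * ((m : k) - 1) * (2 * (m : k) - 1) - 3 * (a : k) * (m : k) * ((m : k) - 1) := by
      intro m
      induction m with
      | zero => simp
      | succ l ih =>
        rw [Finset.sum_range_succ, mul_add, ih]
        simp only [mu]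
        push_cast
        field_simp
        ring
    have hval : ∀ i ∈ Finset.range a, LinearMap.trace k V (mu (k := k) a i • R i i) = mu a i := by
      intro i hi
      rw [map_smul, htr, hφc _ _ (Finset.mem_range.1 hi), if_pos rfl, smul_eq_mul, mul_one]
    rw [Finset.sum_congr rfl hval]
    intro h0
    have h := hs a
    rw [← Finset.mul_sum, h0, mul_zero, mul_zero] at h
    have hfac : (a : k) * ((a - 1 : ℕ) : k) * ((a + 1 : ℕ) : k) = 0 := by
      rw [Nat.cast_sub (by omega : 1 ≤ a)]
      push_cast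
      linear_combination h
    have hne : ∀ m : ℕ, 0 < m → m < p → (m : k) ≠ 0 := fun m h1 h3 e =>
      absurd (Nat.le_of_dvd h1 ((CharP.cast_eq_zero_iff k p m).1 e)) (by omega)
    exact mul_ne_zero (mul_ne_zero (hne a (by omega) (by omega)) (hne (a - 1) (by omega) (by omega)))
      (hne (a + 1) (by omega) (by omega)) hfac
  · intro g hg
    rw [hz, Finset.mul_sum, map_sum]
    refine Finset.sum_eq_zero fun i hi => ?_
    rw [mul_smul_comm, map_smul]
    rcases Nat.eq_zero_or_pos i with rfl | hipos
    · rw [hmu0, zero_smul]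
    · have : N ^ 2 * g * R i (i - 1) = (φ i).smulRight ((N ^ 2 * g) (c (i - 1))) :=
        LinearMap.ext fun w => by
          show (N ^ 2 * g) (φ i w • c (i - 1)) = φ i w • (N ^ 2 * g) (c (i - 1))
          rw [map_smul]
      rw [this, LinearMap.trace_smulRight]
      show mu a i • ψ ((N ^ (a - 1 - i)) ((N ^ 2 * g) ((N ^ (i - 1)) v))) = 0
      rw [← Module.End.mul_apply, ← Module.End.mul_apply, ← mul_assoc, ← pow_add, mul_assoc,
        (hg.pow_right (i - 1)).eq, ← mul_assoc, ← pow_add,
        pow_eq_zero_of_le (by have := Finset.mem_range.1 hi; omega) ha.1, zero_mul, LinearMap.zero_apply,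
        map_zero, smul_zero]

/-- A solution of `[N, [N, y]] = N`. -/
theorem exists_ad_two (p : ℕ) [hp : Fact p.Prime] [CharP k p] (h2 : (2 : k) ≠ 0) {V : Type*}
    [AddCommGroup V] [Module k V] [FiniteDimensional k V] (N : Module.End k V) {b : ℕ}
    (hb : N ^ b = 0) (hbp : 2 * b < p) : ∃ y : Module.End k V, adN N (adN N y) = N := by
  induction hd : Module.finrank k V using Nat.strong_induction_on generalizing V with
  | _ d ih =>
    by_cases hN : N = 0
    · exact ⟨0, by simp [hN, adN_apply]⟩
    obtain ⟨π, z, hidem, hcomm, hπ0, had2, -, -, -⟩ := exists_block p h2 N hb hbp hN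
    set D := LinearMap.ker π with hD
    have hND : ∀ w ∈ D, N w ∈ D := fun w hw => by
      rw [hD, LinearMap.mem_ker] at hw ⊢
      rw [← Module.End.mul_apply, hcomm.eq, Module.End.mul_apply, hw, map_zero]
    let N' : Module.End k D := N.restrict hND
    have hlt : Module.finrank k D < d := by
      rw [← hd]
      refine Submodule.finrank_lt fun htop => hπ0 ?_
      rwa [LinearMap.ker_eq_top] at htop
    have hN'b : N' ^ b = 0 := by
      rw [Module.End.pow_restrict b hND]
      exact LinearMap.ext fun w => Subtype.ext (by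
        show (N ^ b) (w : V) = 0
        rw [hb]; rfl)
    obtain ⟨y', hy'⟩ := ih _ hlt N' hN'b rfl
    let q : V →ₗ[k] D := (1 - π : Module.End k V).codRestrict D fun w => by
      rw [hD, LinearMap.mem_ker, ← Module.End.mul_apply, mul_sub, mul_one, hidem.eq, sub_self]
      rfl
    let L : Module.End k D → Module.End k V := fun x => D.subtype ∘ₗ x ∘ₗ q
    have hqN : q ∘ₗ N = N' ∘ₗ q := LinearMap.ext fun w => Subtype.ext (by
      show (1 - π : Module.End k V) (N w) = N ((1 - π : Module.End k V) w)
      rw [← Module.End.mul_apply, ((Commute.one_left N).sub_left hcomm).eq, Module.End.mul_apply])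
    have hL : ∀ x, adN N (L x) = L (adN N' x) := fun x => LinearMap.ext fun w => by
      show N ((x (q w) : D) : V) - ((x (q (N w)) : D) : V) =
        (((N' * x - x * N') (q w) : D) : V)
      rw [show q (N w) = N' (q w) from LinearMap.congr_fun hqN w]
      rfl
    refine ⟨z + L y', ?_⟩
    rw [map_add, map_add, had2, hL, hL, hy']
    refine LinearMap.ext fun w => ?_
    show N (π w) + N ((1 - π : Module.End k V) w) = N w
    rw [LinearMap.sub_apply, Module.End.one_apply, map_sub, add_sub_cancel]

end Cfsg.Lib.HalfDeg
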