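import Cfsg.Agent.Lib.HalfDeg.Summand
import Cfsg.Agent.Lib.HalfDeg.Nilp

/-!
# The summand of the endomorphisms of a small module
-/

set_option autoImplicit false
set_option linter.unusedSectionVars false
set_option linter.style.haveILetI false
set_option maxHeartbeats 1000000

namespace Cfsg.Lib.HalfDeg

variable {k : Type*} [Field k] {G : Type*} [Group G] {V : Type*} [AddCommGroup V] [Module k V]

/-- Conjugation on the endomorphisms. -/
def adRep (ρ : G →* Module.End k V) : G →* Module.End k (Module.End k V) where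
  toFun g := LinearMap.mulLeft k (ρ g) ∘ₗ LinearMap.mulRight k (ρ g⁻¹)
  map_one' := LinearMap.ext fun x => by simp
  map_mul' g h := LinearMap.ext fun x => by
    show ρ (g * h) * (x * ρ (g * h)⁻¹) = ρ g * (ρ h * (x * ρ h⁻¹) * ρ g⁻¹)
    rw [mul_inv_rev, map_mul, map_mul]
    simp only [mul_assoc]

theorem adRep_apply (ρ : G →* Module.End k V) (g : G) (x : Module.End k V) :
    adRep ρ g x = ρ g * x * ρ g⁻¹ := (mul_assoc _ _ _).symm

theorem pow_unip_eq {N : Module.End k V} (r : ℕ) : ∃ g : Module.End k V,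
    g ∈ Algebra.adjoin k {N} ∧ (1 + N) ^ r - 1 = (r : k) • N + N ^ 2 * g := by
  induction r with
  | zero => exact ⟨0, zero_mem _, by simp⟩
  | succ j ih =>
    obtain ⟨g, hg, he⟩ := ih
    have hN : N ∈ Algebra.adjoin k {N} := Algebra.subset_adjoin rfl
    refine ⟨g + g * N + (j : k) • 1, add_mem (add_mem hg (mul_mem hg hN))
      (Subalgebra.smul_mem _ (one_mem _) _), ?_⟩
    rw [pow_succ, eq_add_of_sub_eq he]
    simp only [add_mul, one_mul, mul_add, mul_one, Nat.cast_add, Nat.cast_one, add_smul, one_smul,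
      smul_mul_assoc, mul_smul_comm, ← pow_two, mul_assoc]
    abel

theorem commute_of_mem_adjoin {N x : Module.End k V} (hx : x ∈ Algebra.adjoin k {N})
    {T : Module.End k V} (hT : Commute T N) : Commute T x := by
  induction hx using Algebra.adjoin_induction with
  | mem y hy => rwa [Set.mem_singleton_iff.1 hy]
  | algebraMap r => exact (Algebra.commute_algebraMap_left r T).symm
  | add y z _ _ h1 h2 => exact h1.add_right h2
  | mul y z _ _ h1 h2 => exact h1.mul_right h2

theorem mem_adjoin_decomp {N x : Module.End k V} (hx : x ∈ Algebra.adjoin k {N}) :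
    ∃ (c : k) (y : Module.End k V), y ∈ Algebra.adjoin k {N} ∧ x = c • 1 + N * y := by
  induction hx using Algebra.adjoin_induction with
  | mem y hy => exact ⟨0, 1, one_mem _, by simp [Set.mem_singleton_iff.1 hy]⟩
  | algebraMap r => exact ⟨r, 0, zero_mem _, by simp [Algebra.algebraMap_eq_smul_one]⟩
  | add y z _ _ h1 h2 =>
    obtain ⟨c, a, ha, rfl⟩ := h1
    obtain ⟨d, b, hb, rfl⟩ := h2
    exact ⟨c + d, a + b, add_mem ha hb, by rw [add_smul, mul_add]; abel⟩
  | mul y z _ hzm h1 h2 =>
    obtain ⟨c, a, ha, rfl⟩ := h1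
    obtain ⟨d, b, hb, hz⟩ := h2
    refine ⟨c * d, c • b + a * z, add_mem (Subalgebra.smul_mem _ hb _) (mul_mem ha hzm), ?_⟩
    rw [add_mul, smul_mul_assoc, one_mul, mul_assoc, mul_add, mul_smul_comm, mul_smul]
    conv_lhs => arg 1; rw [hz, smul_add]
    abel

/-- Commuting with `N (1 + N g)` forces commuting with `N`. -/
theorem commute_of_commute_log {N g T : Module.End k V} {a : ℕ} (ha : N ^ a = 0)
    (hg : g ∈ Algebra.adjoin k {N}) (hT : Commute T (N + N ^ 2 * g)) : Commute T N := by
  set X := N + N ^ 2 * g with hX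
  set S := Algebra.adjoin k {N}
  have hN : N ∈ S := Algebra.subset_adjoin rfl
  have key : ∀ d j, 1 ≤ j → a ≤ j + d → ∀ h ∈ S, Commute T (N ^ j * h) := by
    intro d
    induction d with
    | zero =>
      intro j _ hj h _
      rw [pow_eq_zero_of_le (by omega : a ≤ j) ha, zero_mul]
      exact Commute.zero_right _
    | succ d ih =>
      intro j hj1 hj h hh
      obtain ⟨c, y, hy, rfl⟩ := mem_adjoin_decomp hh
      rw [mul_add, mul_smul_comm, mul_one, ← mul_assoc, ← pow_succ]
      refine (Commute.smul_right ?_ c).add_right (ih (j + 1) (by omega) (by omega) y hy)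
      have hcg : Commute N g := commute_of_mem_adjoin hg (Commute.refl N)
      have hcs : Commute (1 + N * g) N :=
        (Commute.one_left N).add_left ((Commute.refl N).mul_left hcg.symm)
      have hXpow : X ^ j = (1 + N * g) ^ j * N ^ j := by
        rw [← hcs.mul_pow, hX, add_mul, one_mul, mul_assoc, ← hcg.eq, ← mul_assoc, ← pow_two]
      obtain ⟨q, hqS, hq⟩ : ∃ q ∈ S, (1 + N * g) ^ j - 1 = N * q := by
        refine ⟨g * ∑ i ∈ Finset.range j, (1 + N * g) ^ i, mul_mem hg (sum_mem fun i _ =>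
          pow_mem (add_mem (one_mem _) (mul_mem hN hg)) _), ?_⟩
        rw [← mul_assoc, ← mul_geom_sum, add_sub_cancel_left]
      have hsplit : N ^ j = X ^ j - N ^ (j + 1) * q := by
        have hqN : Commute N q := commute_of_mem_adjoin hqS (Commute.refl N)
        rw [hXpow, eq_add_of_sub_eq hq, add_mul, one_mul, mul_assoc N q, (hqN.pow_left j).eq.symm,
          ← mul_assoc, ← pow_succ', add_sub_cancel_left]
      rw [hsplit]
      exact (hT.pow_right j).sub_right (ih (j + 1) (by omega) (by omega) q hqS)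
  have := key a 1 le_rfl (by omega) 1 (one_mem _)
  rwa [pow_one, mul_one] at this

variable [FiniteDimensional k V] [Finite G]

/-- The three-dimensional orthogonal summand of the endomorphisms of a faithful module of degree
below half of `p`. -/
theorem exists_adjoint_summand (p : ℕ) [hp : Fact p.Prime] [CharP k p] (h2 : (2 : k) ≠ 0)
    (ρ : G →* Module.End k V) (hρ : Function.Injective ρ) (u : G) (hu : u ^ p = 1) (hu1 : u ≠ 1)
    (hsq : ¬ p ^ 2 ∣ Nat.card G) {b : ℕ} (hb : (ρ u - 1) ^ b = 0) (hbp : 2 * b < p) :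
    ∃ (W : Submodule k (Module.End k V)) (B : Module.End k V →ₗ[k] Module.End k V →ₗ[k] k)
      (X : Module.End k V), Module.finrank k W = 3 ∧ (∀ g : G, ∀ w ∈ W, adRep ρ g w ∈ W) ∧
      X ∈ W ∧ X ≠ 0 ∧ (∀ w ∈ W, adRep ρ u w = w → ∃ c : k, w = c • X) ∧ adRep ρ u X = X ∧
      (∀ g : G, ∀ v w, B (adRep ρ g v) (adRep ρ g w) = B v w) ∧ (∀ v w, B v w = B w v) ∧
      B X X = 0 ∧ (∀ w ∈ W, (∀ w' ∈ W, B w w' = 0) → w = 0) ∧
      ∀ (g : G) (c : k), adRep ρ g X = c • X →
        g ∈ Subgroup.normalizer (Subgroup.zpowers u : Set G) := by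
  classical
  set P := Subgroup.zpowers u with hP
  set Nm := Subgroup.normalizer (P : Set G) with hNm
  have horder : orderOf u = p := orderOf_eq_prime hu hu1
  have hcardP : Nat.card P = p := by rw [Nat.card_zpowers, horder]
  haveI hnormal : (P.subgroupOf Nm).Normal := Subgroup.normal_in_normalizer
  have hPle : P ≤ Nm := Subgroup.le_normalizer
  have hcardP' : Nat.card (P.subgroupOf Nm) = p := by
    rw [Nat.card_congr (Subgroup.subgroupOfEquivOfLe hPle).toEquiv, hcardP]
  have hidx : ¬ p ∣ (P.subgroupOf Nm).index := by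
    intro h
    refine hsq (dvd_trans ?_ (Subgroup.card_subgroup_dvd_card Nm))
    rw [← Subgroup.card_mul_index (P.subgroupOf Nm), hcardP', pow_two]
    exact mul_dvd_mul_left p h
  obtain ⟨H', hH'⟩ := Subgroup.exists_right_complement'_of_coprime (N := P.subgroupOf Nm) (by
    rw [hcardP']
    exact (Nat.Prime.coprime_iff_not_dvd hp.out).2 hidx)
  set H := H'.map Nm.subtype with hH
  have hcardH : Nat.card H = (P.subgroupOf Nm).index := by
    rw [hH, Subgroup.card_map_of_injective Nm.subtype_injective, hH'.symm.index_eq_card]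
  have hHN : H ≤ Nm := Subgroup.map_subtype_le H'
  have hdecomp : ∀ g : G, g ∈ Nm → ∃ i : ℕ, ∃ h ∈ H, g = u ^ i * h := by
    intro g hg
    obtain ⟨⟨x, h⟩, hxh⟩ := hH'.2 (⟨g, hg⟩ : Nm)
    have hxP : ((x : Nm) : G) ∈ P := Subgroup.mem_subgroupOf.1 x.2
    obtain ⟨i, -, hi⟩ := ((isOfFinOrder_of_finite u).mem_zpowers_iff_mem_range_orderOf.1 hxP) |>
      Finset.mem_image.1
    refine ⟨i, (h : Nm), ⟨_, h.2, rfl⟩, ?_⟩
    rw [hi, ← Subgroup.coe_mul]
    exact (congrArg Subtype.val hxh).symm
  have hNp : ∀ g : G, g ∈ Nm → g ^ p = 1 → g ∈ P := by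
    intro g hg hgp
    by_contra hgP
    refine hidx ?_
    have h1 : orderOf (QuotientGroup.mk' (P.subgroupOf Nm) ⟨g, hg⟩) = p := by
      refine orderOf_eq_prime ?_ fun h => hgP ?_
      · rw [← map_pow, show (⟨g, hg⟩ : Nm) ^ p = 1 from Subtype.ext hgp, map_one]
      · rw [QuotientGroup.mk'_apply, QuotientGroup.eq_one_iff] at h
        exact Subgroup.mem_subgroupOf.1 h
    rw [Subgroup.index_eq_card, ← h1]
    exact orderOf_dvd_natCard _
  have hr : ∀ h : H, ∃ r : ℕ, (h : G) * u * (h : G)⁻¹ = u ^ r := by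
    intro h
    have hm : (h : G) * u * (h : G)⁻¹ ∈ P :=
      (Subgroup.mem_normalizer_iff.1 (hHN h.2) u).1 (Subgroup.mem_zpowers u)
    obtain ⟨i, -, hi⟩ := ((isOfFinOrder_of_finite u).mem_zpowers_iff_mem_range_orderOf.1 hm) |>
      Finset.mem_image.1
    exact ⟨i, hi.symm⟩
  choose r hr using hr
  set N : Module.End k V := ρ u - 1 with hN
  have hu' : ρ u = 1 + N := by rw [hN, add_sub_cancel]
  clear_value N
  have hN0 : N ≠ 0 := fun h => hu1 (hρ (by rw [hu', h, add_zero, map_one]))
  set S := Algebra.adjoin k {N} with hS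
  have hNS : N ∈ S := Algebra.subset_adjoin rfl
  have hρS : ∀ n : ℕ, ρ (u ^ n) ∈ S := fun n => by
    rw [map_pow, hu']; exact pow_mem (add_mem (one_mem _) hNS) n
  haveI : Fintype H := Fintype.ofFinite H
  have hcardk : (Fintype.card H : k) ≠ 0 := by
    rw [← Nat.card_eq_fintype_card, hcardH]
    exact fun e => hidx ((CharP.cast_eq_zero_iff k p _).1 e)
  have hrk : ∀ h : H, (r h : k) ≠ 0 := fun h e => by
    have hd : p ∣ r h := (CharP.cast_eq_zero_iff k p _).1 e
    obtain ⟨c, hc⟩ := hd
    have := hr h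
    rw [hc, pow_mul, hu, one_pow, conj_eq_one_iff] at this
    exact hu1 this
  have hAdN : ∀ h : H, ∃ g ∈ S, adRep ρ (h : G) N = (r h : k) • N + N ^ 2 * g := by
    intro h
    obtain ⟨g, hg, he⟩ := pow_unip_eq (N := N) (r h)
    refine ⟨g, hg, ?_⟩
    rw [adRep_apply]
    conv_lhs => rw [hN]
    rw [mul_sub, sub_mul, mul_one, ← map_mul, ← map_mul, hr, ← map_mul,
      mul_inv_cancel, map_one, map_pow, hu', he]
  choose gh hgh hghN using hAdN
  set g0 : Module.End k V := (Fintype.card H : k)⁻¹ • ∑ h : H, (r h : k)⁻¹ • gh h with hg0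
  have hg0S : g0 ∈ S := Subalgebra.smul_mem _ (sum_mem fun h _ => Subalgebra.smul_mem _ (hgh h) _) _
  set X : Module.End k V := (Fintype.card H : k)⁻¹ • ∑ h : H, (r h : k)⁻¹ • adRep ρ (h : G) N with hXdef
  have hXeq : X = N + N ^ 2 * g0 := by
    rw [hXdef, hg0, mul_smul_comm, Finset.mul_sum]
    simp only [hghN, smul_add, Finset.sum_add_distrib, smul_smul, inv_mul_cancel₀ (hrk _), one_smul,
      mul_smul_comm, Finset.sum_const, Finset.card_univ, ← Nat.cast_smul_eq_nsmul k,
      inv_mul_cancel₀ hcardk]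
  have hXS : X ∈ S := by rw [hXeq]; exact add_mem hNS (mul_mem (pow_mem hNS 2) hg0S)
  have hXH : ∀ h : H, adRep ρ (h : G) X = (r h : k) • X := by
    intro h'
    have hmul : ∀ h : H, (r (h' * h) : k) = (r h' : k) * (r h : k) := by
      intro h
      have e1 := hr (h' * h)
      have e2 : ((h' * h : H) : G) * u * ((h' * h : H) : G)⁻¹ = u ^ (r h' * r h) := by
        rw [Subgroup.coe_mul, mul_inv_rev, show (h' : G) * (h : G) * u * ((h : G)⁻¹ * (h' : G)⁻¹) =
          (h' : G) * ((h : G) * u * (h : G)⁻¹) * (h' : G)⁻¹ by group, hr, ← conj_pow, hr, ← pow_mul]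
      rw [e2] at e1
      rw [← Nat.cast_mul]
      exact ((CharP.natCast_eq_natCast k p).2 (horder ▸ pow_eq_pow_iff_modEq.1 e1)).symm
    rw [hXdef, map_smul, map_sum, smul_comm]
    congr 1
    rw [Finset.smul_sum]
    refine Fintype.sum_equiv (Equiv.mulLeft h') _ _ fun h => ?_
    simp only [Equiv.coe_mulLeft, map_smul, smul_smul, hmul, Subgroup.coe_mul, map_mul,
      Module.End.mul_apply, mul_inv]
    rw [← mul_assoc, mul_inv_cancel₀ (hrk h'), one_mul]
  clear_value X
  have hNc : ∀ {x : Module.End k V}, x ∈ S → Commute N x := fun hx =>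
    commute_of_mem_adjoin hx (Commute.refl N)
  set u' : Module.End k V := ρ u⁻¹ with hu'def
  have huu : ρ u * u' = 1 := by rw [hu'def, ← map_mul, mul_inv_cancel, map_one]
  have huu' : u' * ρ u = 1 := by rw [hu'def, ← map_mul, inv_mul_cancel, map_one]
  have hu'c : Commute N u' := by
    rw [hN]
    exact (show Commute (ρ u) u' from huu.trans huu'.symm).sub_left (Commute.one_left _)
  have hD : ∀ x, (adRep ρ u - 1) x = adN N x * u' := fun x => by
    rw [LinearMap.sub_apply, Module.End.one_apply, adRep_apply, adN_apply, sub_mul, hu', mul_assoc x N,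
      show N * u' = 1 - u' by
        rw [eq_sub_iff_add_eq]
        have := huu
        rwa [hu', add_mul, one_mul, add_comm] at this]
    simp only [add_mul, one_mul, mul_sub, mul_one]
    rw [← hu'def]
    abel
  have hDpow : ∀ (j : ℕ) x, ((adRep ρ u - 1) ^ j) x = (adN N ^ j) x * u' ^ j := by
    intro j
    induction j with
    | zero => intro x; simp
    | succ m ih =>
      intro x
      rw [pow_succ', Module.End.mul_apply, ih, hD, adN_mul_commute (hu'c.symm.pow_left m),
        pow_succ' (adN N), Module.End.mul_apply, pow_succ u', mul_assoc]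
  have hadNb : adN N ^ (p - 2) = (0 : Module.End k (Module.End k V)) := by
    have hc0 : Commute (LinearMap.mulLeft k N) (LinearMap.mulRight k N) :=
      LinearMap.ext fun x => (mul_assoc N x N).symm
    have hc : Commute (LinearMap.mulLeft k N) (-LinearMap.mulRight k N) := hc0.neg_right
    rw [adN, sub_eq_add_neg, hc.add_pow]
    refine Finset.sum_eq_zero fun i hi => ?_
    have hrange := Finset.mem_range.1 hi
    rcases le_or_gt b i with h | h
    · rw [LinearMap.pow_mulLeft, pow_eq_zero_of_le h hb, LinearMap.mulLeft_zero_eq_zero, zero_mul, zero_mul]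
    · rw [← neg_one_smul k (LinearMap.mulRight k N), smul_pow, LinearMap.pow_mulRight,
        pow_eq_zero_of_le (by omega : b ≤ p - 2 - i) hb, LinearMap.mulRight_zero_eq_zero, smul_zero,
        mul_zero, zero_mul]
  obtain ⟨y, hy⟩ := exists_ad_two p h2 N hb hbp
  obtain ⟨π, z, -, hπc, -, hz2, hz3, hz4, hz5⟩ := exists_block p h2 N hb hbp hN0
  set s : Module.End k V := (1 + N * g0) * (ρ u) ^ 2 with hs
  have hρu : ρ u ∈ S := by simpa using hρS 1
  have hsS : s ∈ S := mul_mem (add_mem (one_mem _) (mul_mem hNS hg0S)) (pow_mem hρu _)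
  set t := LinearMap.trace k V (N * z) with ht
  have hu3S : (ρ u) ^ 3 ∈ S := pow_mem hρu 3
  have hu'2 : (ρ u) ^ 2 * u' ^ 2 = 1 := by
    rw [← (show Commute (ρ u) u' from huu.trans huu'.symm).mul_pow, huu, one_pow]
  let T : TripleData p (adRep ρ) :=
    { u := u
      H := H
      r := r
      X := X
      Y0 := y * s
      μ0 := t⁻¹ • (LinearMap.trace k V ∘ₗ LinearMap.mulRight k ((ρ u) ^ 3 * z))
      hu := hu
      hd := LinearMap.ext fun x => (hDpow (p - 2) x).trans (by rw [hadNb, LinearMap.zero_apply, zero_mul])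
      hN := hNp
      hHN := hHN
      hcard := by rw [Nat.card_eq_fintype_card]; exact hcardk
      hdecomp := hdecomp
      hr := hr
      hXfix := by rw [hD, adN_apply, (hNc hXS).eq, sub_self, zero_mul]
      hXH := hXH
      hY0 := by
        rw [hDpow, pow_two, Module.End.mul_apply, adN_mul_commute (hNc hsS).symm,
          adN_mul_commute (hNc hsS).symm, hy, hs, ← mul_assoc N, mul_add, mul_one, ← mul_assoc N,
          ← pow_two N, ← hXeq, mul_assoc, hu'2, mul_one]
      hμX := by
        obtain ⟨g3, hg3, he3⟩ := pow_unip_eq (N := N) 3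
        show t⁻¹ * LinearMap.trace k V (X * ((ρ u) ^ 3 * z)) = 1
        set w : Module.End k V := ((3 : ℕ) : k) • 1 + N * g3 with hw
        have hwS : w ∈ S := add_mem (Subalgebra.smul_mem _ (one_mem _) _) (mul_mem hNS hg3)
        have hu3 : (ρ u) ^ 3 = 1 + N * w := by
          rw [hu', eq_add_of_sub_eq he3, hw, mul_add, mul_smul_comm, mul_one, ← mul_assoc, ← pow_two,
            add_comm]
        have hgc : Commute (g0 + w + g0 * (N * w)) N :=
          (hNc (add_mem (add_mem hg0S hwS) (mul_mem hg0S (mul_mem hNS hwS)))).symm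
        have hX3 : X * (ρ u) ^ 3 = N + N ^ 2 * (g0 + w + g0 * (N * w)) := by
          rw [hu3, hXeq]
          simp only [mul_add, add_mul, mul_one, mul_assoc, pow_two]
          abel
        rw [← mul_assoc, hX3, add_mul, map_add, hz5 _ hgc, add_zero]
        exact inv_mul_cancel₀ hz4
      hμD := fun v => by
        show t⁻¹ * LinearMap.trace k V ((((adRep ρ u - 1) ^ 3 : Module.End k (Module.End k V)) v) * ((ρ u) ^ 3 * z)) = 0
        rw [hDpow, mul_assoc, ← mul_assoc (u' ^ 3),
          ← (show Commute u' (ρ u) from huu'.trans huu.symm).mul_pow, huu', one_pow, one_mul]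
        have hskew : ∀ a c : Module.End k V, LinearMap.trace k V (adN N a * c) =
            -LinearMap.trace k V (a * adN N c) := by
          intro a c
          rw [adN_apply, adN_apply, sub_mul, mul_sub, map_sub, map_sub, mul_assoc N a c,
            LinearMap.trace_mul_comm k N (a * c), mul_assoc a c N, mul_assoc a N c]
          ring
        rw [show adN N ^ 3 = adN N * (adN N * adN N) by rw [pow_succ', pow_two]]
        simp only [Module.End.mul_apply]
        rw [hskew, hskew, hskew, hz2, hz3, mul_zero, map_zero, neg_zero, neg_zero, neg_zero, mul_zero] }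
  obtain ⟨W, B, hW, hinv, hXW, hker, hBinv, hBsymm, hBX, hBnd⟩ := T.exists_summand h2
  have hX0 : X ≠ 0 := fun h => by
    have h1 := T.hμX
    rw [show T.X = X from rfl, h, map_zero] at h1
    exact zero_ne_one h1
  refine ⟨W, B, X, hW, hinv, hXW, hX0, hker, ?_, hBinv, hBsymm, hBX, hBnd, ?_⟩
  · have h := T.hXfix
    rwa [LinearMap.sub_apply, Module.End.one_apply, sub_eq_zero] at h
  · intro g c hgc
    have hT : Commute (ρ g⁻¹ * N * ρ g) X := by
      have h1 : ρ g * X = c • X * ρ g := by
        rw [← hgc, adRep_apply, mul_assoc (ρ g * X), ← map_mul, inv_mul_cancel, map_one, mul_one]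
      have h2' : X * ρ g⁻¹ = c • (ρ g⁻¹ * X) := by
        calc X * ρ g⁻¹ = ρ g⁻¹ * (ρ g * X) * ρ g⁻¹ := by
              rw [← mul_assoc (ρ g⁻¹), ← map_mul, inv_mul_cancel, map_one, one_mul]
          _ = c • (ρ g⁻¹ * X) := by
              rw [h1, smul_mul_assoc, mul_smul_comm, smul_mul_assoc, ← mul_assoc (ρ g⁻¹), mul_assoc (ρ g⁻¹ * X),
                ← map_mul, mul_inv_cancel, map_one, mul_one]
      show ρ g⁻¹ * N * ρ g * X = X * (ρ g⁻¹ * N * ρ g)
      rw [mul_assoc (ρ g⁻¹ * N), h1, smul_mul_assoc, mul_smul_comm, ← mul_assoc X, ← mul_assoc X, h2',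
        smul_mul_assoc, smul_mul_assoc, mul_assoc (ρ g⁻¹) X N, ← (hNc hXS).eq, ← mul_assoc (ρ g⁻¹) N X,
        ← mul_assoc]
    rw [hXeq] at hT
    have h4 := commute_of_commute_log hb hg0S hT
    have hconj : ρ (g⁻¹ * u * g) = 1 + ρ g⁻¹ * N * ρ g := by
      rw [map_mul, map_mul, hu', mul_add, mul_one, add_mul, ← map_mul, inv_mul_cancel, map_one]
    have hcomm : Commute (g⁻¹ * u * g) u := hρ (by
      rw [map_mul ρ (g⁻¹ * u * g) u, map_mul ρ u (g⁻¹ * u * g), hconj, hu']
      exact ((Commute.one_left _).add_left ((Commute.one_right _).add_right h4)).eq)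
    have hmemN : g⁻¹ * u * g ∈ Nm := by
      rw [hNm, Subgroup.mem_normalizer_iff]
      intro y
      have hcy : ∀ z ∈ P, g⁻¹ * u * g * z * (g⁻¹ * u * g)⁻¹ = z := by
        intro z hz
        obtain ⟨i, rfl⟩ := hz
        rw [(hcomm.zpow_right i).eq, mul_inv_cancel_right]
      constructor
      · exact fun hy => by rw [hcy y hy]; exact hy
      · intro hy
        have := hcy _ hy
        rw [mul_left_inj, mul_right_inj] at this
        exact this ▸ hy
    have hmem : g⁻¹ * u * g ∈ P := hNp _ hmemN (by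
      rw [show g⁻¹ * u * g = g⁻¹ * u * g⁻¹⁻¹ by rw [inv_inv], conj_pow, hu, mul_one, mul_inv_cancel])
    have hle : P.map (MulAut.conj g⁻¹).toMonoidHom ≤ P := by
      rw [hP, MonoidHom.map_zpowers, Subgroup.zpowers_le]
      simpa using hmem
    have heq : P.map (MulAut.conj g⁻¹).toMonoidHom = P := Subgroup.eq_of_le_of_card_ge hle
      (le_of_eq (Subgroup.card_map_of_injective (MulAut.conj g⁻¹).injective).symm)
    have hgi : g⁻¹ ∈ Nm := by
      rw [hNm, Subgroup.mem_normalizer_iff]
      intro x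
      constructor
      · intro hx
        rw [← heq]
        exact ⟨x, hx, rfl⟩
      · intro hx
        rw [← heq] at hx
        obtain ⟨w, hw, hxy⟩ := hx
        rw [show x = w from (MulAut.conj g⁻¹).injective hxy.symm]
        exact hw
    simpa using inv_mem hgi

end Cfsg.Lib.HalfDeg
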