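import Mathlib

/-!
# Eigenvalues of an element of prime order conjugate to several of its powers
-/

set_option autoImplicit false
set_option linter.unusedSectionVars false

namespace Cfsg.Lib.HalfDeg

variable {G : Type*} [Group G] {W : Type*} [AddCommGroup W] [Module ℂ W] [FiniteDimensional ℂ W]

/-- Powers of a conjugate exponents give distinct eigenvalues. -/
theorem eigen_count (p : ℕ) [hp : Fact p.Prime] (ρ : G →* Module.End ℂ W) {u : G} (hu : u ^ p = 1)
    (hu1 : ρ u ≠ 1) {m : ℕ} (f : Fin m → ℕ) (hf : Function.Injective fun i => (f i : ZMod p))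
    (hconj : ∀ i, ∃ g, g * u * g⁻¹ = u ^ f i) :
    m ≤ Module.finrank ℂ W ∧ (m = Module.finrank ℂ W →
      ∀ S T : Module.End ℂ W, Commute S (ρ u) → Commute T (ρ u) → Commute S T) := by
  classical
  set L := ρ u with hL
  have hLp : L ^ p = 1 := by rw [hL, ← map_pow, hu, map_one]
  -- an eigenvalue different from one
  obtain ⟨ω, v, hω, hω1, hv0, hv⟩ : ∃ (ω : ℂ) (v : W), ω ^ p = 1 ∧ ω ≠ 1 ∧ v ≠ 0 ∧ L v = ω • v := by
    set ζ := Complex.exp (2 * Real.pi * Complex.I / p) with hζdef
    have hζ : IsPrimitiveRoot ζ p := Complex.isPrimitiveRoot_exp p hp.out.ne_zero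
    have hζpow : ∀ j : ℕ, (ζ ^ j) ^ p = 1 := fun j => by
      rw [← pow_mul, mul_comm, pow_mul, hζ.pow_eq_one, one_pow]
    let Q : ℕ → Module.End ℂ W := fun j => ∑ i ∈ Finset.range p, ((ζ ^ j)⁻¹) ^ i • L ^ i
    have hQ : ∀ j, L * Q j = (ζ ^ j) • Q j := by
      intro j
      have hne : ζ ^ j ≠ 0 := pow_ne_zero _ (hζ.ne_zero hp.out.ne_zero)
      simp only [Q, Finset.mul_sum, mul_smul_comm, Finset.smul_sum, smul_smul, ← pow_succ']
      obtain ⟨p', hp'⟩ : ∃ p', p = p' + 1 := ⟨p - 1, (Nat.sub_add_cancel hp.out.one_le).symm⟩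
      rw [hp', Finset.sum_range_succ,
        Finset.sum_range_succ' (fun i => (ζ ^ j * (ζ ^ j)⁻¹ ^ i) • L ^ i)]
      congr 1
      · refine Finset.sum_congr rfl fun i _ => ?_
        rw [pow_succ' ((ζ ^ j)⁻¹) i, ← mul_assoc, mul_inv_cancel₀ hne, one_mul]
      · rw [← hp', hLp, pow_zero, pow_zero, mul_one]
        congr 1
        have := hζpow j
        rw [hp', pow_succ] at this
        rw [inv_pow, inv_eq_of_mul_eq_one_right this]
    have hsum : ∑ j ∈ Finset.range p, Q j = (p : ℂ) • 1 := by
      simp only [Q]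
      rw [Finset.sum_comm]
      rw [Finset.sum_eq_single 0]
      · simp [Nat.cast_smul_eq_nsmul]
      · intro i hi hi0
        rw [← Finset.sum_smul]
        have hgs : ∑ j ∈ Finset.range p, ((ζ ^ j)⁻¹) ^ i = 0 := by
          have e : ∀ j, ((ζ ^ j)⁻¹) ^ i = ((ζ ^ i)⁻¹) ^ j := fun j => by
            rw [inv_pow, inv_pow, ← pow_mul, ← pow_mul, mul_comm]
          simp only [e]
          have hne : (ζ ^ i)⁻¹ ≠ 1 := by
            rw [Ne, inv_eq_one]
            exact hζ.pow_ne_one_of_pos_of_lt hi0 (Finset.mem_range.1 hi)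
          rw [geom_sum_eq hne, inv_pow, hζpow, inv_one, sub_self, zero_div]
        rw [hgs, zero_smul]
      · intro h; exact absurd (Finset.mem_range.2 hp.out.pos) h
    by_contra hcon
    push Not at hcon
    have hQ0 : ∀ j ∈ Finset.range p, j ≠ 0 → Q j = 0 := fun j hj hj0 => by
      refine LinearMap.ext fun w => ?_
      by_contra hne
      exact hcon (ζ ^ j) (Q j w) (hζpow j) (hζ.pow_ne_one_of_pos_of_lt hj0 (Finset.mem_range.1 hj))
        hne (LinearMap.congr_fun (hQ j) w)
    rw [Finset.sum_eq_single 0 hQ0 (fun h => absurd (Finset.mem_range.2 hp.out.pos) h)] at hsum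
    have h1 := hQ 0
    rw [hsum, pow_zero, one_smul, mul_smul_comm, mul_one] at h1
    exact hu1 (smul_right_injective _ (Nat.cast_ne_zero.2 hp.out.ne_zero) h1)
  have hprim : orderOf ω = p := orderOf_eq_prime hω hω1
  -- the translated eigenvectors
  have hvec : ∀ i, ∃ w : W, w ≠ 0 ∧ L w = (ω ^ f i) • w := by
    intro i
    obtain ⟨g, hg⟩ := hconj i
    refine ⟨ρ g⁻¹ v, fun h => hv0 ?_, ?_⟩
    · have := congrArg (ρ g) h
      rwa [← Module.End.mul_apply, ← map_mul, mul_inv_cancel, map_one, Module.End.one_apply, map_zero] at this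
    · have h2 : u * g⁻¹ = g⁻¹ * u ^ f i := by rw [← hg]; group
      rw [hL, ← Module.End.mul_apply, ← map_mul, h2, map_mul, Module.End.mul_apply, map_pow]
      have hpow : ∀ j : ℕ, (ρ u ^ j) v = ω ^ j • v := fun j => by
        induction j with
        | zero => simp
        | succ l ih => rw [pow_succ', Module.End.mul_apply, ih, map_smul, hv, smul_smul, ← pow_succ]
      rw [hpow, map_smul]
  choose w hw0 hw using hvec
  have hinj : Function.Injective fun i => ω ^ f i := by
    intro i j h
    refine hf ?_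
    simp only at h
    have := (isOfFinOrder_iff_pow_eq_one.2 ⟨p, hp.out.pos, hω⟩).pow_eq_pow_iff_modEq.1 h
    rw [hprim] at this
    exact (ZMod.natCast_eq_natCast_iff _ _ p).2 this
  have hli : LinearIndependent ℂ w :=
    Module.End.eigenvectors_linearIndependent' L (fun i => ω ^ f i) hinj w fun i =>
      Module.End.hasEigenvector_iff.2 ⟨Module.End.mem_eigenspace_iff.2 (hw i), hw0 i⟩
  refine ⟨by simpa using hli.fintype_card_le_finrank, fun hmd S T hS hT => ?_⟩
  rcases Nat.eq_zero_or_pos m with rfl | hm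
  · haveI : Subsingleton W := Module.finrank_zero_iff.1 hmd.symm
    exact LinearMap.ext fun x => Subsingleton.elim _ _
  haveI : Nonempty (Fin m) := ⟨⟨0, hm⟩⟩
  let b := basisOfLinearIndependentOfCardEqFinrank hli (by simp [hmd])
  have hb : (b : Fin m → W) = w := coe_basisOfLinearIndependentOfCardEqFinrank _ _
  have hdiag : ∀ R : Module.End ℂ W, Commute R L → ∀ i, ∃ c : ℂ, R (w i) = c • w i := by
    intro R hR i
    refine ⟨b.repr (R (w i)) i, ?_⟩
    have h1 : L (R (w i)) = ω ^ f i • R (w i) := by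
      rw [← Module.End.mul_apply, ← hR.eq, Module.End.mul_apply, hw, map_smul]
    conv_lhs => rw [← b.sum_repr (R (w i))]
    rw [Finset.sum_eq_single i, hb]
    · intro j _ hj
      have hcoord : (b.coord j).comp L = (ω ^ f j) • b.coord j := b.ext fun l => by
        rw [LinearMap.comp_apply, hb, hw, ← hb, map_smul, LinearMap.smul_apply, Module.Basis.coord_apply,
          Module.Basis.repr_self, Finsupp.single_apply]
        split
        · subst_vars; rfl
        · simp
      have h2 := LinearMap.congr_fun hcoord (R (w i))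
      rw [LinearMap.comp_apply, h1, map_smul, LinearMap.smul_apply, smul_eq_mul, smul_eq_mul] at h2
      have h3 : b.repr (R (w i)) j = 0 := by
        by_contra hne
        exact hj (hinj (mul_right_cancel₀ hne h2)).symm
      rw [h3, zero_smul]
    · intro h; exact absurd (Finset.mem_univ _) h
  refine b.ext fun i => ?_
  obtain ⟨c, hc⟩ := hdiag S hS i
  obtain ⟨d, hd⟩ := hdiag T hT i
  rw [hb, Module.End.mul_apply, Module.End.mul_apply, hc, hd, map_smul, map_smul, hc, hd, smul_smul,
    smul_smul, mul_comm]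

end Cfsg.Lib.HalfDeg
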