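import Cfsg.Agent.Lib.Dickson.PSLTwo
import Cfsg.Agent.S0253

/-!
# A group with a homomorphism to `PGL₂` in characteristic `p`
-/

set_option autoImplicit false
set_option linter.unusedSectionVars false
set_option linter.style.haveILetI false
set_option maxHeartbeats 1000000

namespace Cfsg.Lib.HalfDeg

open Matrix MulAction Cfsg.Lib.Dickson
open scoped OnePoint

/-- Elements of prime order when the square of the prime does not divide the order. -/
theorem exists_conj_pow {L : Type*} [Group L] [Finite L] {p : ℕ} [hp : Fact p.Prime]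
    (hsq : ¬ p ^ 2 ∣ Nat.card L) {x y : L} (hx : orderOf x = p) (hy : orderOf y = p) :
    ∃ (h : L) (i : ℕ), y = h * x ^ i * h⁻¹ := by
  classical
  have hpd : p ∣ Nat.card L := hx ▸ orderOf_dvd_natCard x
  have hf : (Nat.card L).factorization p = 1 := by
    refine le_antisymm ?_ ((hp.out.dvd_iff_one_le_factorization Nat.card_pos.ne').1 hpd)
    by_contra hlt
    exact hsq ((hp.out.pow_dvd_iff_le_factorization Nat.card_pos.ne').2 (by omega))
  have hcard : ∀ z : L, orderOf z = p → Nat.card (Subgroup.zpowers z) = p ^ (Nat.card L).factorization p :=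
    fun z hz => by rw [Nat.card_zpowers, hz, hf, pow_one]
  let Sx : Sylow p L := Sylow.ofCard (Subgroup.zpowers x) (hcard x hx)
  let Sy : Sylow p L := Sylow.ofCard (Subgroup.zpowers y) (hcard y hy)
  obtain ⟨h, hh⟩ := MulAction.exists_smul_eq L Sx Sy
  have hmem : y ∈ ((h • Sx : Sylow p L) : Subgroup L) := by rw [hh]; exact Subgroup.mem_zpowers y
  rw [Sylow.smul_def, Sylow.pointwise_smul_def] at hmem
  obtain ⟨z, hz, hzy⟩ := hmem
  obtain ⟨i, -, hi⟩ := ((isOfFinOrder_of_finite x).mem_zpowers_iff_mem_range_orderOf.1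
    (show z ∈ Subgroup.zpowers x from hz)) |> Finset.mem_image.1
  exact ⟨h, i, by rw [← hzy, ← hi]; rfl⟩

variable {k : Type*} [Field k] {p : ℕ} [hp : Fact p.Prime] [CharP k p] {G : Type*} [Group G] [Finite G]

/-- Transfer a fusion from a quotient. -/
theorem exists_conj_of_quotient {L : Type*} [Group L] (π : G →* L) (hπ : Function.Surjective π)
    {u : G} (hu : u ^ p = 1) (hπu : π u ≠ 1) (hK : ∀ g, π g = 1 → Commute g u)
    (hKp : ∀ g, π g = 1 → g ^ p = 1 → g = 1) (hsq : ¬ p ^ 2 ∣ Nat.card L) {x y : L}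
    (hx : orderOf x = p) {c : ℕ} (hc : y * x * y⁻¹ = x ^ c) :
    ∃ g, g * u * g⁻¹ = u ^ c := by
  haveI : Finite L := Finite.of_surjective π hπ
  obtain ⟨h, i, hi⟩ := exists_conj_pow hsq hx
    (orderOf_eq_prime (by rw [← map_pow, hu, map_one]) hπu : orderOf (π u) = p)
  obtain ⟨g, hg⟩ := hπ (h * y * h⁻¹)
  have himg : π (g * u * g⁻¹) = π (u ^ c) := by
    rw [map_mul, map_mul, map_inv, map_pow, hg, hi, conj_pow, ← pow_mul, mul_comm i c, pow_mul, ← hc,
      conj_pow]
    group
  refine ⟨g, ?_⟩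
  set z := (u ^ c)⁻¹ * (g * u * g⁻¹) with hz
  have hz1 : π z = 1 := by rw [hz, map_mul, map_inv, himg, inv_mul_cancel]
  have hcom : Commute (u ^ c) z := ((hK z hz1).pow_right c).symm
  have : z = 1 := hKp z hz1 (by
    have h2 : (u ^ c * z) ^ p = 1 := by rw [hz, mul_inv_cancel_left, conj_pow, hu, mul_one, mul_inv_cancel]
    rwa [hcom.mul_pow, ← pow_mul, mul_comm, pow_mul, hu, one_pow, one_mul] at h2)
  rw [hz, inv_mul_eq_one] at this
  exact this.symm

/-- The two outcomes. -/
theorem group_cases [IsAlgClosed k] (hp5 : 5 ≤ p) (hsq : ¬ p ^ 2 ∣ Nat.card G) {u : G} (hu : u ^ p = 1)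
    (ψ : G →* Matrix.ProjGenLinGroup (Fin 2) k) (hψu : ψ u ≠ 1)
    (hK : ∀ g, ψ g = 1 → Commute g u) (hnn : ¬ (Subgroup.zpowers u).Normal) :
    (∀ c : ℕ, ¬ p ∣ c → ∃ g, g * u * g⁻¹ = u ^ c) ∨
      (Nonempty (G ⧸ ψ.ker ≃* Matrix.ProjectiveSpecialLinearGroup (Fin 2) (ZMod p)) ∧
        ∀ c : ℕ, ¬ p ∣ c → ∃ g, g * u * g⁻¹ = u ^ (c * c)) := by
  classical
  have hu1 : u ≠ 1 := fun e => hψu (by rw [e, map_one])
  have horder : orderOf u = p := orderOf_eq_prime hu hu1
  have hKp : ∀ g, ψ g = 1 → g ^ p = 1 → g = 1 := by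
    intro g hg hgp
    by_contra hg1
    refine hsq ?_
    have ho : orderOf g = p := orderOf_eq_prime hgp hg1
    have h1 : p ∣ Nat.card ψ.ker := by
      rw [← ho, ← Subgroup.orderOf_mk g (MonoidHom.mem_ker.2 hg)]; exact orderOf_dvd_natCard _
    have h2 : p ∣ ψ.ker.index := by
      rw [← (show orderOf (ψ u) = p from orderOf_eq_prime (by rw [← map_pow, hu, map_one]) hψu), Subgroup.index_ker,
        ← Subgroup.orderOf_mk (H := ψ.range) (ψ u) ⟨u, rfl⟩]
      exact orderOf_dvd_natCard _
    rw [← Subgroup.card_mul_index ψ.ker, pow_two]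
    exact mul_dvd_mul h1 h2
  set R := ψ.range with hR
  haveI : Finite R := Finite.of_surjective ψ.rangeRestrict ψ.rangeRestrict_surjective
  have hsqR : ¬ p ^ 2 ∣ Nat.card R := fun h => hsq (h.trans (by
    rw [hR, ← Subgroup.index_ker]; exact Subgroup.index_dvd_card _))
  have hpR : p ∣ Nat.card R := by
    rw [← (show orderOf (ψ u) = p from orderOf_eq_prime (by rw [← map_pow, hu, map_one]) hψu),
      ← Subgroup.orderOf_mk (H := ψ.range) (ψ u) ⟨u, rfl⟩]
    exact orderOf_dvd_natCard _
  let eR : G ⧸ ψ.ker ≃* R := QuotientGroup.quotientKerEquivRange ψ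
  -- the normal case
  have hnormal : ∀ x : OnePoint k, ¬ ∀ h ∈ R, h • x = x := by
    intro x hx
    refine hnn ?_
    obtain ⟨v, hv⟩ := exists_smul_infty x
    have hex : ∀ g : G, ∃ a : kˣ, ∃ b : k, v * ψ g * v⁻¹ = aff a b := fun g =>
      exists_aff_of_smul_infty (by rw [← hv, mul_smul, mul_smul, inv_smul_smul, hx _ ⟨g, rfl⟩])
    choose a b hab using hex
    have hmul : ∀ g h, a (g * h) = a g * a h := fun g h => by
      have := hab (g * h)
      rw [map_mul, show v * (ψ g * ψ h) * v⁻¹ = (v * ψ g * v⁻¹) * (v * ψ h * v⁻¹) by group, hab, hab,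
        aff_mul] at this
      exact (aff_injective this).1.symm
    let f : G →* kˣ := MonoidHom.mk' a hmul
    have hunit : ∀ z : kˣ, z ^ p = 1 → z = 1 := fun z hz => Units.ext (by
      have h1 : ((z : k) - 1) ^ p = 0 := by
        rw [sub_pow_char, ← Units.val_pow_eq_pow_val, hz, Units.val_one, one_pow, sub_self]
      exact sub_eq_zero.1 (pow_eq_zero_iff hp.out.ne_zero |>.1 h1))
    -- the elements of order `p` commute modulo the kernel
    refine ⟨fun y hy g => ?_⟩
    obtain ⟨i, rfl⟩ := hy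
    rw [← conj_zpow]
    refine Subgroup.zpow_mem _ ?_ i
    have hfu : f u = 1 := hunit _ (by rw [← map_pow, hu, map_one])
    have hfc : f (g * u * g⁻¹) = 1 := by rw [map_mul, map_mul, hfu, mul_one, ← map_mul, mul_inv_cancel, map_one]
    have hcomm : ψ (g * u * g⁻¹) * ψ u = ψ u * ψ (g * u * g⁻¹) := by
      have e1 := hab (g * u * g⁻¹)
      have e2 := hab u
      rw [show a (g * u * g⁻¹) = 1 from hfc] at e1
      rw [show a u = 1 from hfu] at e2
      refine (MulAut.conj v).injective ?_
      rw [(MulAut.conj v).map_mul, (MulAut.conj v).map_mul, MulAut.conj_apply, MulAut.conj_apply, e1, e2,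
        aff_mul, aff_mul]
      simp [add_comm]
    set w := g * u * g⁻¹ with hw
    have hwp : w ^ p = 1 := by rw [hw, conj_pow, hu, mul_one, mul_inv_cancel]
    have hcu : Commute w u := by
      have hz : ψ (w * u * w⁻¹ * u⁻¹) = 1 := by
        rw [map_mul, map_mul, map_mul, hcomm, map_inv, mul_inv_cancel_right, map_inv, mul_inv_cancel]
      set z := w * u * w⁻¹ * u⁻¹ with hzdef
      have hcz : Commute z u := hK z hz
      have h2 : (z * u) ^ p = 1 := by rw [hzdef, inv_mul_cancel_right, conj_pow, hu, mul_one, mul_inv_cancel]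
      rw [hcz.mul_pow, hu, mul_one] at h2
      have hz1 : z = 1 := hKp z hz h2
      rw [hzdef, mul_inv_eq_one, mul_inv_eq_iff_eq_mul] at hz1
      exact hz1
    by_contra hwn
    refine hsq ?_
    have hsup : IsPGroup p (Subgroup.zpowers w ⊔ Subgroup.zpowers u : Subgroup G) := by
      refine IsPGroup.to_sup_of_normal_right' ?_ ?_ ?_
      · exact IsPGroup.of_card (n := 1) (by
          rw [Nat.card_zpowers, pow_one]
          refine orderOf_eq_prime hwp fun e => hu1 ?_
          rwa [hw, conj_eq_one_iff] at e)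
      · exact IsPGroup.of_card (n := 1) (by rw [Nat.card_zpowers, pow_one, horder])
      · rw [Subgroup.zpowers_le]
        rw [Subgroup.mem_normalizer_iff]
        intro z
        have hcz : ∀ z ∈ Subgroup.zpowers u, w * z * w⁻¹ = z := by
          rintro z ⟨i, rfl⟩
          rw [(hcu.zpow_right i).eq, mul_inv_cancel_right]
        constructor
        · exact fun hz => by rw [hcz z hz]; exact hz
        · intro hz
          have := hcz _ hz
          rw [mul_left_inj, mul_right_inj] at this
          exact this ▸ hz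
    obtain ⟨n, hn⟩ := IsPGroup.iff_card.1 hsup
    have hlt : Nat.card (Subgroup.zpowers u) < Nat.card (Subgroup.zpowers w ⊔ Subgroup.zpowers u : Subgroup G) := by
      by_contra hge
      have heq := Subgroup.eq_of_le_of_card_ge (le_sup_right : Subgroup.zpowers u ≤
        Subgroup.zpowers w ⊔ Subgroup.zpowers u) (not_lt.1 hge)
      exact hwn (heq.symm ▸ (le_sup_left : Subgroup.zpowers w ≤ _) (Subgroup.mem_zpowers w))
    rw [Nat.card_zpowers, horder, hn] at hlt
    have hn2 : 2 ≤ n := by
      by_contra h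
      interval_cases n <;> simp at hlt
      all_goals omega
    exact (pow_dvd_pow p hn2).trans (hn ▸ Subgroup.card_subgroup_dvd_card _)
  have hsmall : ¬ HasSmallOrbitOn R := by
    rintro (⟨x, hx⟩ | ⟨x, y, hxy, hpair⟩)
    · exact hnormal x hx
    · rcases cyclic_or_dihedral_of_pair p hxy hpair with ⟨-, h⟩ | ⟨r, hr, ⟨d⟩⟩
      · exact h hpR
      · rw [Nat.card_congr d.toEquiv, DihedralGroup.nat_card] at hpR
        rcases hp.out.dvd_mul.1 hpR with h | h
        · have := Nat.le_of_dvd two_pos h; omega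
        · exact hr h
  have h12 : ∀ m : ℕ, Nat.card R = m → p ∣ m := fun m h => h ▸ hpR
  -- transfer along an isomorphism
  have htransfer : ∀ {L : Type} [Group L] (e : R ≃* L) {x y : L}, orderOf x = p → ∀ c : ℕ,
      y * x * y⁻¹ = x ^ c → ∃ g, g * u * g⁻¹ = u ^ c := by
    intro L _ e x y hx c hc
    refine exists_conj_of_quotient (p := p) (e.toMonoidHom.comp ψ.rangeRestrict)
      (e.surjective.comp ψ.rangeRestrict_surjective) hu ?_ ?_ ?_ ?_ hx hc
    · intro h
      exact hψu (congrArg Subtype.val (e.map_eq_one_iff.1 h))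
    · exact fun g hg => hK g (congrArg Subtype.val (e.map_eq_one_iff.1 hg))
    · exact fun g hg => hKp g (congrArg Subtype.val (e.map_eq_one_iff.1 hg))
    · rwa [← Nat.card_congr e.toEquiv]
  have hpsl : Nonempty (R ≃* Matrix.ProjectiveSpecialLinearGroup (Fin 2) (ZMod p)) →
      Nonempty (G ⧸ ψ.ker ≃* Matrix.ProjectiveSpecialLinearGroup (Fin 2) (ZMod p)) ∧
        ∀ c : ℕ, ¬ p ∣ c → ∃ g, g * u * g⁻¹ = u ^ (c * c) := by
    rintro ⟨e⟩
    refine ⟨⟨eR.trans e⟩, fun c hc => ?_⟩
    have hc0 : (c : ZMod p) ≠ 0 := fun h => hc ((CharP.cast_eq_zero_iff (ZMod p) p c).1 h)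
    let T : ℕ → SpecialLinearGroup (Fin 2) (ZMod p) := fun j => ⟨!![1, (j : ZMod p); 0, 1], by simp [det_fin_two]⟩
    let Dg : SpecialLinearGroup (Fin 2) (ZMod p) :=
      ⟨!![(c : ZMod p), 0; 0, (c : ZMod p)⁻¹], by simp [det_fin_two, mul_inv_cancel₀ hc0]⟩
    have hTpow : ∀ j : ℕ, T 1 ^ j = T j := fun j => by
      induction j with
      | zero => rw [pow_zero]; apply Subtype.ext; ext a b; fin_cases a <;> fin_cases b <;> simp [T]
      | succ l ih =>
        rw [pow_succ, ih]; apply Subtype.ext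
        show (T l).1 * (T 1).1 = (T (l + 1)).1
        ext a b
        fin_cases a <;> fin_cases b <;>
          simp [T, Matrix.SpecialLinearGroup.coe_mul, Matrix.mul_apply, Fin.sum_univ_two, add_comm]
    have hD : Dg * T 1 * Dg⁻¹ = T (c * c) := by
      rw [mul_inv_eq_iff_eq_mul]; apply Subtype.ext
      show Dg.1 * (T 1).1 = (T (c * c)).1 * Dg.1
      ext a b
      fin_cases a <;> fin_cases b <;> simp [T, Dg, Matrix.SpecialLinearGroup.coe_mul, Matrix.mul_apply, Fin.sum_univ_two, mul_assoc,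
        mul_inv_cancel₀ hc0]
    let q := QuotientGroup.mk' (Subgroup.center (SpecialLinearGroup (Fin 2) (ZMod p)))
    have hxo : orderOf (q (T 1)) = p := by
      refine orderOf_eq_prime ?_ ?_
      · rw [← map_pow, hTpow, show T p = 1 by
          apply Subtype.ext; ext a b; fin_cases a <;> fin_cases b <;> simp [T], map_one]
      · intro h
        rw [QuotientGroup.mk'_apply, QuotientGroup.eq_one_iff, Subgroup.mem_center_iff] at h
        have h' : (!![1, 0; 1, 1] : Matrix (Fin 2) (Fin 2) (ZMod p)) * (T 1).1 = (T 1).1 * !![1, 0; 1, 1] :=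
          congrArg Subtype.val (h ⟨!![1, 0; 1, 1], by simp [det_fin_two]⟩)
        have h'' := congrFun (congrFun h' 0) 0
        simp [T, Matrix.mul_apply, Fin.sum_univ_two] at h''
    exact htransfer e hxo (c * c) (show q Dg * q (T 1) * (q Dg)⁻¹ = q (T 1) ^ (c * c) by
      rw [← map_inv, ← map_mul, ← map_mul, ← map_pow, hD, hTpow])
  rcases finite_subgroup_cases p R with h | ⟨hnn', h⟩
  · exact absurd h hsmall
  rcases h with ⟨⟨e⟩⟩ | ⟨⟨e⟩⟩ | ⟨⟨e⟩⟩ | ⟨K, v, hKfin, hK3, -, hiso⟩
  · have hc : Nat.card R = 12 := by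
      rw [Nat.card_congr e.toEquiv, nat_card_alternatingGroup]; simp [Nat.factorial]
    have hd := h12 12 hc
    have := Nat.le_of_dvd (by norm_num) hd
    interval_cases p
    all_goals first
      | omega
      | exact absurd hp.out (by norm_num)
  · have hc : Nat.card R = 24 := by rw [Nat.card_congr e.toEquiv, Nat.card_perm]; simp [Nat.factorial]
    have hd := h12 24 hc
    have := Nat.le_of_dvd (by norm_num) hd
    interval_cases p
    all_goals first
      | omega
      | exact absurd hp.out (by norm_num)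
  · have hc : Nat.card R = 60 := by
      rw [Nat.card_congr e.toEquiv, nat_card_alternatingGroup]; simp [Nat.factorial]
    have hp5' : p = 5 := by
      have h60 := h12 60 hc
      rcases hp.out.dvd_mul.1 (show p ∣ 12 * 5 from h60) with h | h
      · have := Nat.le_of_dvd (by norm_num) h
        interval_cases p
        all_goals first
          | rfl
          | omega
          | exact absurd hp.out (by norm_num)
      · exact (Nat.prime_dvd_prime_iff_eq hp.out Nat.prime_five).1 h
    subst hp5'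
    obtain ⟨e5⟩ := Cfsg.Agent.S0253.result (F := ZMod 5) (ZMod.card 5)
    exact Or.inr (hpsl ⟨e.trans e5.symm⟩)
  · haveI : Fintype K := Fintype.ofFinite _
    haveI : CharP K p := Subfield.charP K p
    obtain ⟨m, -, hm⟩ := FiniteField.card K p
    have hKp' : Fintype.card K = p := by
      have hdvd : p ^ (m : ℕ) ∣ 2 * Nat.card R := by
        rcases hiso with ⟨⟨e⟩, -⟩ | ⟨⟨e⟩⟩
        · rw [Nat.card_congr e.toEquiv, ← hm]
          refine dvd_trans ?_ (mul_dvd_mul_right (Nat.gcd_dvd_left 2 (Fintype.card K - 1)) _)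
          rw [Cfsg.Lib.Linear.Two.card_PSL_two]; exact dvd_mul_right _ _
        · rw [Nat.card_congr e.toEquiv, Cfsg.Lib.Linear.card_PGL_eq_card_SL,
            Cfsg.Lib.Linear.Two.card_SL_two, ← hm]
          exact dvd_mul_of_dvd_right (dvd_mul_right _ _) _
      have h2 : (p ^ (m : ℕ)).Coprime 2 :=
        Nat.Coprime.pow_left _ ((Nat.coprime_primes hp.out Nat.prime_two).2 (by omega))
      have h3 := h2.dvd_of_dvd_mul_left hdvd
      have hm1 : (m : ℕ) = 1 := by
        have := m.pos
        by_contra hne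
        exact hsqR ((pow_dvd_pow p (by omega)).trans h3)
      rw [hm, hm1, pow_one]
    let φ : K ≃+* ZMod p := FiniteField.ringEquivOfCardEq (by rw [hKp', ZMod.card])
    rcases hiso with ⟨⟨e⟩, -⟩ | ⟨⟨e⟩⟩
    · exact Or.inr (hpsl ⟨e.trans (pslEquiv φ)⟩)
    · refine Or.inl fun c hc => ?_
      have hc0 : (c : ZMod p) ≠ 0 := fun h => hc ((CharP.cast_eq_zero_iff (ZMod p) p c).1 h)
      let cu : (ZMod p)ˣ := Units.mk0 _ hc0
      have hpow : ∀ j : ℕ, (aff (1 : (ZMod p)ˣ) (1 : ZMod p)) ^ j = aff 1 (j : ZMod p) := fun j => by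
        induction j with
        | zero => rw [pow_zero, Nat.cast_zero, aff_one]
        | succ l ih => rw [pow_succ, ih, aff_mul]; simp [add_comm]
      have hxo : orderOf (aff (1 : (ZMod p)ˣ) (1 : ZMod p)) = p := by
        refine orderOf_eq_prime ?_ fun h => ?_
        · rw [hpow, ZMod.natCast_self, aff_one]
        · rw [← aff_one] at h
          exact one_ne_zero (aff_injective h).2
      refine htransfer (e.trans (pglEquiv φ)) hxo c (y := aff cu 0) ?_
      rw [hpow, aff_inv, aff_mul, aff_mul]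
      simp [cu]

end Cfsg.Lib.HalfDeg
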