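import Mathlib

/-!
# Three-dimensional orthogonal groups inside `PGL₂`
-/

set_option autoImplicit false
set_option linter.unusedSectionVars false
set_option linter.style.haveILetI false
set_option maxHeartbeats 1000000

namespace Cfsg.Lib.HalfDeg

open Matrix

variable {k : Type*} [Field k]

/-- The symmetric square of a two by two matrix. -/
def symSq (m : Matrix (Fin 2) (Fin 2) k) : Matrix (Fin 3) (Fin 3) k :=
  !![m 0 0 * m 0 0, 2 * (m 0 0 * m 0 1), m 0 1 * m 0 1;
     m 0 0 * m 1 0, m 0 0 * m 1 1 + m 0 1 * m 1 0, m 0 1 * m 1 1;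
     m 1 0 * m 1 0, 2 * (m 1 0 * m 1 1), m 1 1 * m 1 1]

theorem symSq_one : symSq (1 : Matrix (Fin 2) (Fin 2) k) = 1 := by
  ext i j
  fin_cases i <;> fin_cases j <;> simp [symSq, Matrix.one_apply]

theorem symSq_mul (a b : Matrix (Fin 2) (Fin 2) k) : symSq (a * b) = symSq a * symSq b := by
  ext i j
  fin_cases i <;> fin_cases j <;>
    simp [symSq, Matrix.mul_apply, Fin.sum_univ_two, Fin.sum_univ_three] <;> ring

theorem symSq_smul (c : k) (a : Matrix (Fin 2) (Fin 2) k) : symSq (c • a) = (c * c) • symSq a := by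
  ext i j
  fin_cases i <;> fin_cases j <;> simp [symSq] <;> ring

/-- Only scalar matrices have scalar symmetric square. -/
theorem mem_center_of_symSq {g : GL (Fin 2) k} {c : k}
    (h : symSq (g : Matrix (Fin 2) (Fin 2) k) = c • 1) : g ∈ Subgroup.center (GL (Fin 2) k) := by
  have e20 := congrFun (congrFun h 2) 0
  have e02 := congrFun (congrFun h 0) 2
  have e00 := congrFun (congrFun h 0) 0
  have e11 := congrFun (congrFun h 1) 1
  simp [symSq] at e20 e02 e00 e11
  have hdet := g.det_ne_zero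
  rw [det_fin_two, e20, e02, mul_zero, sub_zero] at hdet
  have h00 : g 0 0 = g 1 1 := by
    rw [e02, zero_mul, add_zero] at e11
    exact mul_left_cancel₀ (left_ne_zero_of_mul hdet) (e00.trans e11.symm)
  rw [GeneralLinearGroup.center_eq_range_scalar]
  refine ⟨Units.mk0 (g 0 0) (left_ne_zero_of_mul hdet), Units.ext ?_⟩
  ext i j
  fin_cases i <;> fin_cases j <;> simp [e20, e02, h00]

/-- The bilinear form of the symmetric square. -/
def qForm (v w : Fin 3 → k) : k := v 0 * w 2 + v 2 * w 0 - 2 * (v 1 * w 1)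

theorem qForm_symSq (m : Matrix (Fin 2) (Fin 2) k) (v w : Fin 3 → k) :
    qForm (symSq m *ᵥ v) (symSq m *ᵥ w) = m.det * m.det * qForm v w := by
  simp [qForm, symSq, det_fin_two, Matrix.mulVec, dotProduct, Fin.sum_univ_three]
  ring

/-- Every isometry is a multiple of a symmetric square. -/
theorem exists_symSq_eq (h2 : (2 : k) ≠ 0) (S : Matrix (Fin 3) (Fin 3) k)
    (hS : ∀ v w, qForm (S *ᵥ v) (S *ᵥ w) = qForm v w) :
    ∃ (g : GL (Fin 2) k) (c : k), c ≠ 0 ∧ S = c • symSq (g : Matrix (Fin 2) (Fin 2) k) := by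
  classical
  -- move the first column
  have hiso : ∀ (T : Matrix (Fin 3) (Fin 3) k), (∀ v w, qForm (T *ᵥ v) (T *ᵥ w) = qForm v w) →
      T 0 0 * T 2 0 = T 1 0 * T 1 0 := by
    intro T hT
    have := hT (Pi.single 0 1) (Pi.single 0 1)
    simp [qForm, Matrix.mulVec_single_one] at this
    refine mul_left_cancel₀ h2 ?_
    linear_combination this
  have hcomp : ∀ (m : Matrix (Fin 2) (Fin 2) k) (T : Matrix (Fin 3) (Fin 3) k), m.det * m.det = 1 →
      (∀ v w, qForm (T *ᵥ v) (T *ᵥ w) = qForm v w) →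
      ∀ v w, qForm ((symSq m * T) *ᵥ v) ((symSq m * T) *ᵥ w) = qForm v w := by
    intro m T hm hT v w
    rw [← Matrix.mulVec_mulVec, ← Matrix.mulVec_mulVec, qForm_symSq, hm, one_mul, hT]
  obtain ⟨g1, hd1, h1, h2'⟩ : ∃ g1 : GL (Fin 2) k,
      (g1 : Matrix (Fin 2) (Fin 2) k).det * (g1 : Matrix (Fin 2) (Fin 2) k).det = 1 ∧
      (symSq (g1 : Matrix (Fin 2) (Fin 2) k) * S) 1 0 = 0 ∧
      (symSq (g1 : Matrix (Fin 2) (Fin 2) k) * S) 2 0 = 0 := by
    have hq := hiso S hS
    by_cases hc : S 2 0 = 0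
    · refine ⟨1, by simp, ?_, ?_⟩
      · rw [Units.val_one, symSq_one, one_mul]
        rw [hc, mul_zero] at hq
        exact mul_self_eq_zero.1 hq.symm
      · rw [Units.val_one, symSq_one, one_mul, hc]
    · set t := -(S 1 0 / S 2 0) with ht
      refine ⟨GeneralLinearGroup.mkOfDetNeZero !![0, 1; 1, t] (by simp [det_fin_two]),
        by simp [GeneralLinearGroup.mkOfDetNeZero, det_fin_two], ?_, ?_⟩
      · simp [GeneralLinearGroup.mkOfDetNeZero, symSq, Matrix.mul_apply, Fin.sum_univ_three, ht]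
        field_simp
        ring
      · simp [GeneralLinearGroup.mkOfDetNeZero, symSq, Matrix.mul_apply, Fin.sum_univ_three, ht]
        field_simp
        linear_combination hq
  set S1 := symSq (g1 : Matrix (Fin 2) (Fin 2) k) * S with hS1
  have hS1iso := hcomp _ S hd1 hS
  rw [← hS1] at hS1iso
  have happ : ∀ (T : Matrix (Fin 3) (Fin 3) k), (∀ v w, qForm (T *ᵥ v) (T *ᵥ w) = qForm v w) →
      ∀ i j, qForm (T *ᵥ Pi.single i 1) (T *ᵥ Pi.single j 1) =
        qForm (Pi.single i 1 : Fin 3 → k) (Pi.single j 1) := fun T hT i j => hT _ _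
  have hl : S1 0 0 * S1 2 2 = 1 := by
    have := happ S1 hS1iso 0 2
    simpa [qForm, Matrix.mulVec_single_one, h1, h2'] using this
  have hl0 : S1 2 2 ≠ 0 := fun e => by rw [e, mul_zero] at hl; exact zero_ne_one hl
  have hS100 : S1 0 0 ≠ 0 := fun e => by rw [e, zero_mul] at hl; exact zero_ne_one hl
  obtain ⟨g2, hd2, h3, h4, h5, h6, h7, h8, h9⟩ : ∃ g2 : GL (Fin 2) k,
      (g2 : Matrix (Fin 2) (Fin 2) k).det * (g2 : Matrix (Fin 2) (Fin 2) k).det = 1 ∧
      (symSq (g2 : Matrix (Fin 2) (Fin 2) k) * S1) 1 0 = 0 ∧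
      (symSq (g2 : Matrix (Fin 2) (Fin 2) k) * S1) 2 0 = 0 ∧
      (symSq (g2 : Matrix (Fin 2) (Fin 2) k) * S1) 0 2 = 0 ∧
      (symSq (g2 : Matrix (Fin 2) (Fin 2) k) * S1) 1 2 = 0 ∧
      (symSq (g2 : Matrix (Fin 2) (Fin 2) k) * S1) 0 0 = S1 0 0 ∧
      (symSq (g2 : Matrix (Fin 2) (Fin 2) k) * S1) 2 2 = S1 2 2 ∧
      (symSq (g2 : Matrix (Fin 2) (Fin 2) k) * S1) 2 2 = S1 2 2 := by
    have hq2 : S1 0 2 * S1 2 2 = S1 1 2 * S1 1 2 := by
      have := happ S1 hS1iso 2 2
      simp [qForm, Matrix.mulVec_single_one] at this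
      refine mul_left_cancel₀ h2 ?_
      linear_combination this
    set t := -(S1 1 2 / S1 2 2) with ht
    refine ⟨GeneralLinearGroup.mkOfDetNeZero !![1, t; 0, 1] (by simp [det_fin_two]),
      by simp [GeneralLinearGroup.mkOfDetNeZero, det_fin_two], ?_, ?_, ?_, ?_, ?_, ?_, ?_⟩ <;>
      simp [GeneralLinearGroup.mkOfDetNeZero, symSq, Matrix.mul_apply, Fin.sum_univ_three, h1, h2', ht]
    · field_simp
      linear_combination hq2
    · field_simp
      ring
  set S2 := symSq (g2 : Matrix (Fin 2) (Fin 2) k) * S1 with hS2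
  have hS2iso := hcomp _ S1 hd2 hS1iso
  rw [← hS2] at hS2iso
  have hd : S2 2 1 = 0 := by
    have := happ S2 hS2iso 0 1
    simp [qForm, Matrix.mulVec_single_one, h3, h4, h7, hS100] at this
    exact this
  have hu : S2 0 1 = 0 := by
    have := happ S2 hS2iso 2 1
    simp [qForm, Matrix.mulVec_single_one, h5, h6, h8, hl0] at this
    exact this
  have hb : S2 1 1 * S2 1 1 = 1 := by
    have := happ S2 hS2iso 1 1
    simp [qForm, Matrix.mulVec_single_one, hd, hu] at this
    exact mul_left_cancel₀ h2 (by linear_combination this)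
  have hb0 : S2 1 1 ≠ 0 := fun e => by rw [e, mul_zero] at hb; exact zero_ne_one hb
  let g3 : GL (Fin 2) k := GeneralLinearGroup.mkOfDetNeZero !![S2 1 1 * S1 0 0, 0; 0, 1]
    (by simp [det_fin_two, hb0, hS100])
  have hS2eq : S2 = (S1 0 0)⁻¹ • symSq (g3 : Matrix (Fin 2) (Fin 2) k) := by
    ext i j
    fin_cases i <;> fin_cases j <;>
      simp [g3, GeneralLinearGroup.mkOfDetNeZero, symSq, h3, h4, h5, h6, h7, h8, hd, hu]
    · field_simp
      linear_combination -hb
    · field_simp
    · exact eq_inv_of_mul_eq_one_right hl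
  refine ⟨g1⁻¹ * g2⁻¹ * g3, (S1 0 0)⁻¹, inv_ne_zero hS100, ?_⟩
  have e : symSq ((g1⁻¹ * g2⁻¹ : GL (Fin 2) k) : Matrix (Fin 2) (Fin 2) k) * S2 = S := by
    rw [hS2, hS1, ← mul_assoc, ← mul_assoc, ← symSq_mul, ← symSq_mul, ← Units.val_mul, ← Units.val_mul,
      show g1⁻¹ * g2⁻¹ * g2 * g1 = 1 by group, Units.val_one, symSq_one, one_mul]
  rw [← e, hS2eq, Matrix.mul_smul, ← symSq_mul, ← Units.val_mul]

variable {G : Type*} [Group G] {W : Type*} [AddCommGroup W] [Module k W] [FiniteDimensional k W]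

/-- An orthogonal representation of degree three with an isotropic vector whose line is not
invariant gives a homomorphism to `PGL₂` whose kernel is the scalar part. -/
theorem exists_projHom [IsAlgClosed k] (h2 : (2 : k) ≠ 0) (σ : G →* Module.End k W)
    (hW : Module.finrank k W = 3) (B : W →ₗ[k] W →ₗ[k] k)
    (hinv : ∀ g v w, B (σ g v) (σ g w) = B v w) (hsymm : ∀ v w, B v w = B w v)
    (hnd : ∀ w, (∀ w', B w w' = 0) → w = 0) {X : W} (hX : X ≠ 0) (hXX : B X X = 0)
    (hmove : ∃ g, ∀ c : k, σ g X ≠ c • X) :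
    ∃ ψ : G →* Matrix.ProjGenLinGroup (Fin 2) k, ∀ g, ψ g = 1 ↔ ∃ c : k, ∀ w, σ g w = c • w := by
  classical
  obtain ⟨g0, hg0⟩ := hmove
  set X' := σ g0 X with hX'
  have hX'X' : B X' X' = 0 := by rw [hX', hinv, hXX]
  have hli : LinearIndependent k ![X, X'] := by
    rw [LinearIndependent.pair_iff' hX]
    exact fun a h => hg0 a h.symm
  have hXX' : B X X' ≠ 0 := by
    intro h0
    have hinj : Function.Injective B := by
      rw [← LinearMap.ker_eq_bot, Submodule.eq_bot_iff]
      exact fun w hw => hnd w fun w' => by rw [LinearMap.mem_ker.1 hw]; rfl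
    set S := Submodule.span k (Set.range ![X, X']) with hSdef
    have hSdim : Module.finrank k S = 2 := by rw [hSdef, finrank_span_eq_card hli]; simp
    have hle : S.map B ≤ S.dualAnnihilator := by
      rw [hSdef, Submodule.map_span, Submodule.span_le]
      rintro _ ⟨_, ⟨i, rfl⟩, rfl⟩
      rw [SetLike.mem_coe, Submodule.mem_dualAnnihilator]
      intro w hw
      induction hw using Submodule.span_induction with
      | mem w hw =>
        obtain ⟨j, rfl⟩ := hw
        fin_cases i <;> fin_cases j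
        exacts [hXX, h0, (hsymm _ _).trans h0, hX'X']
      | zero => simp
      | add a b _ _ ha hb => rw [map_add, ha, hb, add_zero]
      | smul c a _ ha => rw [map_smul, ha, smul_zero]
    have h1 := Subspace.finrank_add_finrank_dualAnnihilator_eq S
    have h3 : Module.finrank k (S.map B) = 2 := by
      rw [← hSdim]
      exact (Submodule.equivMapOfInjective B hinj S).finrank_eq.symm
    have := Submodule.finrank_mono hle
    rw [hW, hSdim] at h1
    have h4 : 2 ≤ Module.finrank k S.dualAnnihilator := le_of_eq_of_le h3.symm this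
    omega
  set Z := (B X X')⁻¹ • X' with hZ
  have hXZ : B X Z = 1 := by rw [hZ, map_smul, smul_eq_mul, inv_mul_cancel₀ hXX']
  have hZZ : B Z Z = 0 := by simp [hZ, hX'X']
  have hliXZ : LinearIndependent k ![X, Z] := by
    rw [LinearIndependent.pair_iff' hX]
    intro a h
    refine hg0 (B X X' * a) ?_
    rw [mul_smul, h, hZ, smul_smul, mul_inv_cancel₀ hXX', one_smul]
  obtain ⟨v, hv⟩ : ∃ v, v ∉ Submodule.span k (Set.range ![X, Z]) := by
    by_contra h
    push Not at h
    have : Submodule.span k (Set.range ![X, Z]) = ⊤ := eq_top_iff.2 fun w _ => h w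
    have h1 := finrank_span_eq_card hliXZ
    rw [this, finrank_top, hW] at h1
    simp at h1
  set H0 := v - B Z v • X - B X v • Z with hH0
  have hXH : B X H0 = 0 := by simp [hH0, hXX, hXZ]
  have hZH : B Z H0 = 0 := by simp [hH0, hZZ, hsymm Z X, hXZ]
  have hli3 : LinearIndependent k ![H0, X, Z] := by
    refine linearIndependent_fin_cons.2 ⟨hliXZ, fun hmem => hv ?_⟩
    have e : v = H0 + B Z v • X + B X v • Z := by rw [hH0]; abel
    rw [e]
    exact add_mem (add_mem hmem (Submodule.smul_mem _ _ (Submodule.subset_span ⟨0, rfl⟩)))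
      (Submodule.smul_mem _ _ (Submodule.subset_span ⟨1, rfl⟩))
  have hspan : Submodule.span k (Set.range ![H0, X, Z]) = ⊤ :=
    hli3.span_eq_top_of_card_eq_finrank (by simp [hW])
  have hHH : B H0 H0 ≠ 0 := by
    intro h0
    have hall : ∀ w, B H0 w = 0 := by
      intro w
      have hw : w ∈ Submodule.span k (Set.range ![H0, X, Z]) := hspan ▸ Submodule.mem_top
      induction hw using Submodule.span_induction with
      | mem w hw =>
        obtain ⟨j, rfl⟩ := hw
        fin_cases j
        exacts [h0, (hsymm _ _).trans hXH, (hsymm _ _).trans hZH]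
      | zero => simp
      | add a b _ _ ha hb => rw [map_add, ha, hb, add_zero]
      | smul c a _ ha => rw [map_smul, ha, smul_zero]
    exact hli3.ne_zero 0 (hnd H0 hall)
  obtain ⟨s, hs⟩ := IsAlgClosed.exists_pow_nat_eq (-2 / B H0 H0) (n := 2) two_pos
  have hs0 : s ≠ 0 := fun e => by
    rw [e, zero_pow two_ne_zero, eq_comm, div_eq_zero_iff, neg_eq_zero] at hs
    exact hs.elim h2 hHH
  set H := s • H0 with hH
  have hHH2 : B H H = -2 := by
    simp only [hH, map_smul, LinearMap.smul_apply, smul_eq_mul]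
    rw [← mul_assoc, ← pow_two, hs, div_mul_cancel₀ _ hHH]
  have hliB : LinearIndependent k ![X, H, Z] := by
    rw [Fintype.linearIndependent_iff] at hli3 ⊢
    intro c hc
    simp [Fin.sum_univ_three, hH, smul_smul] at hc
    have h := hli3 ![c 1 * s, c 0, c 2] (by
      simp [Fin.sum_univ_three]
      rw [← hc]; abel)
    intro i
    fin_cases i
    · simpa using h 1
    · simpa [hs0] using h 0
    · simpa using h 2
  let b := basisOfLinearIndependentOfCardEqFinrank hliB (by simp [hW])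
  have hb : (b : Fin 3 → W) = ![X, H, Z] := coe_basisOfLinearIndependentOfCardEqFinrank _ _
  have hform : ∀ v w, B v w = qForm (b.repr v) (b.repr w) := by
    intro v w
    conv_lhs => rw [← b.sum_repr v, ← b.sum_repr w]
    simp [Fin.sum_univ_three, hb, hXX, hXZ, hHH2, hZZ, hsymm Z X, hsymm H X, hsymm H Z, qForm,
      show B X H = 0 by simp [hH, hXH], show B Z H = 0 by simp [hH, hZH]]
    ring
  let S : G → Matrix (Fin 3) (Fin 3) k := fun g => LinearMap.toMatrix b b (σ g)
  have hSapp : ∀ g w, S g *ᵥ (b.repr w : Fin 3 → k) = b.repr (σ g w) := fun g w =>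
    LinearMap.toMatrix_mulVec_repr b b (σ g) w
  have hSiso : ∀ g v w, qForm (S g *ᵥ v) (S g *ᵥ w) = qForm v w := by
    intro g v w
    have hv : (b.repr (b.equivFun.symm v) : Fin 3 → k) = v := b.equivFun.apply_symm_apply v
    have hw : (b.repr (b.equivFun.symm w) : Fin 3 → k) = w := b.equivFun.apply_symm_apply w
    rw [← hv, ← hw, hSapp, hSapp, ← hform, ← hform, hinv]
  choose m cm hcm hm using fun g => exists_symSq_eq h2 (S g) (hSiso g)
  have hSmul : ∀ g h, S (g * h) = S g * S h := fun g h => by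
    show LinearMap.toMatrix b b (σ (g * h)) = _
    rw [map_mul, LinearMap.toMatrix_mul]
  have huniq : ∀ (x y : GL (Fin 2) k) (c : k), symSq (x : Matrix (Fin 2) (Fin 2) k) =
      c • symSq (y : Matrix (Fin 2) (Fin 2) k) →
      (ProjGenLinGroup.mk x : Matrix.ProjGenLinGroup (Fin 2) k) = ProjGenLinGroup.mk y := by
    intro x y c h
    have : symSq ((y⁻¹ * x : GL (Fin 2) k) : Matrix (Fin 2) (Fin 2) k) = c • 1 := by
      rw [Units.val_mul, symSq_mul, h, Matrix.mul_smul, ← symSq_mul, ← Units.val_mul, inv_mul_cancel,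
        Units.val_one, symSq_one]
    have h' := ProjGenLinGroup.mk_eq_one.2 (mem_center_of_symSq this)
    rw [map_mul, map_inv, inv_mul_eq_one] at h'
    exact h'.symm
  let ψ : G →* Matrix.ProjGenLinGroup (Fin 2) k := MonoidHom.mk' (fun g => ProjGenLinGroup.mk (m g))
    fun g h => by
      rw [← map_mul]
      refine huniq _ _ ((cm (g * h))⁻¹ * (cm g * cm h)) ?_
      have := hm (g * h)
      rw [hSmul, hm g, hm h, Matrix.smul_mul, Matrix.mul_smul, ← symSq_mul, ← Units.val_mul, smul_smul] at this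
      rw [mul_smul, this, smul_smul, inv_mul_cancel₀ (hcm _), one_smul]
  refine ⟨ψ, fun g => ?_⟩
  constructor
  · intro hg
    have hc : m g ∈ Subgroup.center (GL (Fin 2) k) := ProjGenLinGroup.mk_eq_one.1 hg
    rw [GeneralLinearGroup.center_eq_range_scalar] at hc
    obtain ⟨a, ha⟩ := hc
    refine ⟨cm g * ((a : k) * a), fun w => ?_⟩
    refine b.repr.injective (DFunLike.coe_injective ?_)
    rw [← hSapp, hm, ← ha, map_smul, Finsupp.coe_smul]
    have e : ((GeneralLinearGroup.scalar (Fin 2) a : GL (Fin 2) k) : Matrix (Fin 2) (Fin 2) k) =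
        (a : k) • 1 := by
      ext i j
      fin_cases i <;> fin_cases j <;> simp
    rw [e, symSq_smul, symSq_one, smul_smul, Matrix.smul_mulVec, Matrix.one_mulVec]
  · rintro ⟨c, hc⟩
    show ProjGenLinGroup.mk (m g) = 1
    refine ProjGenLinGroup.mk_eq_one.2 (mem_center_of_symSq (c := (cm g)⁻¹ * c) ?_)
    have hS : S g = c • 1 := by
      show LinearMap.toMatrix b b (σ g) = _
      rw [show σ g = c • (1 : Module.End k W) from LinearMap.ext hc, map_smul, LinearMap.toMatrix_one]
    rw [mul_smul, ← hS, hm, smul_smul, inv_mul_cancel₀ (hcm g), one_smul]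

end Cfsg.Lib.HalfDeg
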