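import Cfsg.Agent.Lib.HalfDeg.Adjoint
import Cfsg.Agent.Lib.HalfDeg.ThreeDim
import Cfsg.Agent.Lib.HalfDeg.Reduction
import Cfsg.Agent.Lib.HalfDeg.Eigen
import Cfsg.Agent.Lib.HalfDeg.GroupCases
import Cfsg.Agent.Lib.Dickson.Solvable

/-!
# Faithful degree `(p - 1) / 2`

A group with a Sylow subgroup of order `p` which is not normal and a faithful representation of
degree `(p - 1) / 2` has central quotient `PSL(2, p)`.
-/

set_option autoImplicit false
set_option linter.unusedSectionVars false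
set_option linter.style.haveILetI false
set_option maxHeartbeats 1000000

namespace Cfsg.Lib.HalfDeg

variable {p : ℕ} [hp : Fact p.Prime] {G : Type*} [Group G] [Finite G]

/-- A small faithful module in characteristic `p` gives a homomorphism to `PGL₂` whose kernel
centralizes the Sylow subgroup. -/
theorem exists_toPGL {k : Type*} [Field k] [CharP k p] [IsAlgClosed k] (hp2 : p ≠ 2) {V : Type*}
    [AddCommGroup V] [Module k V] [FiniteDimensional k V] (ρ : G →* Module.End k V)
    (hρ : Function.Injective ρ) {u : G} (hu : u ^ p = 1) (hu1 : u ≠ 1)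
    (hsq : ¬ p ^ 2 ∣ Nat.card G) (hnn : ¬ (Subgroup.zpowers u).Normal) {b : ℕ}
    (hb : (ρ u - 1) ^ b = 0) (hbp : 2 * b < p) :
    ∃ ψ : G →* Matrix.ProjGenLinGroup (Fin 2) k, ψ u ≠ 1 ∧ ∀ g, ψ g = 1 → Commute g u := by
  classical
  have h2 : (2 : k) ≠ 0 := by
    rw [show (2 : k) = ((2 : ℕ) : k) by norm_num, Ne, CharP.cast_eq_zero_iff k p]
    exact fun h => hp2 ((Nat.prime_dvd_prime_iff_eq hp.out Nat.prime_two).1 h)
  obtain ⟨W, B, X, hW, hinv, hXW, hX0, hker, hXfix, hBinv, hBsymm, hBX, hBnd, hline⟩ :=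
    exists_adjoint_summand p h2 ρ hρ u hu hu1 hsq hb hbp
  let σ : G →* Module.End k W :=
    { toFun := fun g => (adRep ρ g).restrict fun w hw => hinv g w hw
      map_one' := LinearMap.ext fun w => Subtype.ext (by
        show adRep ρ 1 (w : Module.End k V) = (w : Module.End k V)
        rw [map_one]; rfl)
      map_mul' := fun g h => LinearMap.ext fun w => Subtype.ext (by
        show adRep ρ (g * h) (w : Module.End k V) = adRep ρ g (adRep ρ h (w : Module.End k V))
        rw [map_mul]; rfl) }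
  have hmove : ∃ g, ∀ c : k, σ g ⟨X, hXW⟩ ≠ c • ⟨X, hXW⟩ := by
    by_contra hcon
    push Not at hcon
    refine hnn ⟨fun x hx g => ?_⟩
    obtain ⟨c, hc⟩ := hcon g
    exact (Subgroup.mem_normalizer_iff.1 (hline g c (congrArg Subtype.val hc)) x).1 hx
  obtain ⟨ψ, hψ⟩ := exists_projHom h2 σ hW (B.compl₁₂ W.subtype W.subtype)
    (fun g v w => hBinv g v w) (fun v w => hBsymm v w)
    (fun w hw => Subtype.ext (hBnd w w.2 fun w' hw' => hw ⟨w', hw'⟩))
    (X := ⟨X, hXW⟩) (fun h => hX0 (congrArg Subtype.val h)) hBX hmove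
  have hψu : ψ u ≠ 1 := by
    intro h
    obtain ⟨c, hc⟩ := (hψ u).1 h
    have h1 : X = c • X := hXfix.symm.trans (congrArg Subtype.val (hc ⟨X, hXW⟩))
    have hc1 : c = 1 := by
      by_contra hne
      refine hX0 ((smul_eq_zero.1 (show (c - 1) • X = 0 by rw [sub_smul, ← h1, one_smul, sub_self])).resolve_left
        (sub_ne_zero.2 hne))
    have hle : W ≤ Submodule.span k {X} := fun w hw => by
      obtain ⟨d, hd⟩ := hker w hw (by
        have := congrArg Subtype.val (hc ⟨w, hw⟩)
        rwa [hc1, one_smul] at this)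
      rw [hd]
      exact Submodule.smul_mem _ _ (Submodule.mem_span_singleton_self X)
    have h3 := Submodule.finrank_mono hle
    rw [hW, finrank_span_singleton hX0] at h3
    omega
  refine ⟨ψ, hψu, fun g hg => ?_⟩
  obtain ⟨c, hc⟩ := (hψ g).1 hg
  have hgN := hline g c (congrArg Subtype.val (hc ⟨X, hXW⟩))
  have hmem : g * u * g⁻¹ * u⁻¹ ∈ Subgroup.zpowers u :=
    mul_mem ((Subgroup.mem_normalizer_iff.1 hgN u).1 (Subgroup.mem_zpowers u))
      (inv_mem (Subgroup.mem_zpowers u))
  have hz : ψ (g * u * g⁻¹ * u⁻¹) = 1 := by simp [hg]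
  set z := g * u * g⁻¹ * u⁻¹ with hzdef
  by_cases hz1 : z = 1
  · rw [hzdef, mul_inv_eq_one, mul_inv_eq_iff_eq_mul] at hz1
    exact hz1
  · exfalso
    refine hψu ?_
    have ho : orderOf u = p := orderOf_eq_prime hu hu1
    have hcard : Nat.card (Subgroup.zpowers u) = p := by rw [Nat.card_zpowers, ho]
    have htop : (ψ.ker.subgroupOf (Subgroup.zpowers u)) = ⊤ := by
      haveI : Fact (Nat.card (Subgroup.zpowers u)).Prime := ⟨hcard.symm ▸ hp.out⟩
      refine ((ψ.ker.subgroupOf (Subgroup.zpowers u)).eq_bot_or_eq_top_of_prime_card).resolve_left fun h => hz1 ?_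
      have hm : (⟨z, hmem⟩ : Subgroup.zpowers u) ∈ ψ.ker.subgroupOf (Subgroup.zpowers u) := hz
      rw [h, Subgroup.mem_bot] at hm
      exact congrArg Subtype.val hm
    have : (⟨u, Subgroup.mem_zpowers u⟩ : Subgroup.zpowers u) ∈ ψ.ker.subgroupOf (Subgroup.zpowers u) := by
      rw [htop]; trivial
    exact this

/-- The main theorem. -/
theorem psl_of_half_degree (hsq : ¬ p ^ 2 ∣ Nat.card G) (hdiv : p ∣ Nat.card G)
    (hnn : ∀ H : Subgroup G, H.Normal → Nat.card H ≠ p) {n : ℕ}
    (ρ : G →* Module.End ℂ (Fin n → ℂ)) (hρ : Function.Injective ρ) (hn : 2 * n + 1 = p) :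
    Nonempty ((G ⧸ Subgroup.center G) ≃* Matrix.ProjectiveSpecialLinearGroup (Fin 2) (ZMod p)) := by
  classical
  obtain ⟨u, hu⟩ := exists_prime_orderOf_dvd_card' p hdiv
  have hup : u ^ p = 1 := hu ▸ pow_orderOf_eq_one u
  have hu1 : u ≠ 1 := fun e => hp.out.ne_one (by rw [← hu, e, orderOf_one])
  have hnnP : ¬ (Subgroup.zpowers u).Normal := fun h => hnn _ h (by rw [Nat.card_zpowers, hu])
  have hfr : Module.finrank ℂ (Fin n → ℂ) = n := by simp
  have hp5 : 5 ≤ p := by
    by_contra hlt
    have h1 : n ≤ 1 := by omega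
    refine hnnP ⟨fun x hx g => ?_⟩
    have hcomm : g * x = x * g := hρ (by
      rw [map_mul, map_mul]
      refine LinearMap.ext fun v => ?_
      have h11 : ∀ (T : Module.End ℂ (Fin n → ℂ)), ∃ c : ℂ, T = c • 1 := by
        intro T
        interval_cases n
        · exact ⟨0, LinearMap.ext fun v => Subsingleton.elim _ _⟩
        · refine ⟨T 1 0, LinearMap.ext fun v => funext fun i => ?_⟩
          have hv : v = v 0 • (1 : Fin 1 → ℂ) := funext fun j => by fin_cases j; simp
          fin_cases i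
          conv_lhs => rw [hv, map_smul]
          simp [mul_comm]
      obtain ⟨c, hc⟩ := h11 (ρ g)
      rw [hc]
      simp)
    rw [hcomm, mul_inv_cancel_right]
    exact hx
  have hp2 : p ≠ 2 := by omega
  obtain ⟨k, _, _, _, ρ', hker⟩ := exists_modp_rep (p := p) ρ hρ
  have hρ' : Function.Injective ρ' := by
    rw [injective_iff_map_eq_one]
    intro g hg
    by_contra hg1
    have hK : IsPGroup p ρ'.ker := fun x => by
      obtain ⟨j, hj⟩ := hker x x.2
      exact ⟨j, Subtype.ext hj⟩
    obtain ⟨m, hm⟩ := IsPGroup.iff_card.1 hK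
    have hm1 : m ≤ 1 := by
      by_contra hlt
      exact hsq ((pow_dvd_pow p (by omega : 2 ≤ m)).trans (hm ▸ Subgroup.card_subgroup_dvd_card _))
    interval_cases m
    · rw [pow_zero, Subgroup.card_eq_one] at hm
      exact hg1 (by rw [← Subgroup.mem_bot, ← hm]; exact hg)
    · exact hnn _ inferInstance (by rw [hm, pow_one])
  have hnilp : (ρ' u - 1) ^ n = 0 := by
    haveI : NeZero n := ⟨by omega⟩
    haveI : CharP (Module.End k (Fin n → k)) p :=
      charP_of_injective_algebraMap (algebraMap k _).injective p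
    have h1 : (ρ' u - 1) ^ p = 0 := by
      rw [sub_pow_char_of_commute p (Commute.one_right _), ← map_pow, hup, map_one, one_pow, sub_self]
    have h := LinearMap.aeval_self_charpoly (ρ' u - 1)
    rw [(IsNilpotent.charpoly_eq_X_pow_finrank ⟨p, h1⟩), map_pow, Polynomial.aeval_X] at h
    simpa using h
  obtain ⟨ψ, hψu, hψK⟩ := exists_toPGL hp2 ρ' hρ' hup hu1 hsq hnnP hnilp (by omega)
  rcases group_cases hp5 hsq hup ψ hψu hψK hnnP with hall | ⟨⟨e⟩, hsquares⟩
  · exfalso
    have h := (eigen_count p ρ hup (fun e => hu1 (hρ (e.trans (map_one ρ).symm)))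
      (fun i : Fin (p - 1) => (i : ℕ) + 1) (fun i j h => by
        have h' := (ZMod.natCast_eq_natCast_iff' _ _ p).1 h
        rw [Nat.mod_eq_of_lt (by omega), Nat.mod_eq_of_lt (by omega)] at h'
        exact Fin.ext (by omega))
      (fun i => hall _ (fun h => by have := Nat.le_of_dvd (by omega) h; omega))).1
    rw [hfr] at h
    omega
  obtain ⟨-, hcomm⟩ := eigen_count p ρ hup (fun e => hu1 (hρ (e.trans (map_one ρ).symm)))
    (fun i : Fin n => ((i : ℕ) + 1) * ((i : ℕ) + 1)) (fun i j h => by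
      simp only [Nat.cast_mul] at h
      have hfac : ((((i : ℕ) + 1 : ℕ) : ZMod p) - (((j : ℕ) + 1 : ℕ) : ZMod p)) *
          ((((i : ℕ) + 1 : ℕ) : ZMod p) + (((j : ℕ) + 1 : ℕ) : ZMod p)) = 0 := by
        linear_combination h
      rcases mul_eq_zero.1 hfac with h' | h'
      · have h'' := (ZMod.natCast_eq_natCast_iff' _ _ p).1 (sub_eq_zero.1 h')
        rw [Nat.mod_eq_of_lt (by omega), Nat.mod_eq_of_lt (by omega)] at h''
        exact Fin.ext (by omega)
      · rw [← Nat.cast_add, CharP.cast_eq_zero_iff (ZMod p) p] at h'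
        have := Nat.le_of_dvd (by omega) h'
        omega)
    (fun i => hsquares _ (fun h => by have := Nat.le_of_dvd (by omega) h; omega))
  have hKab : ∀ x ∈ ψ.ker, ∀ y ∈ ψ.ker, Commute x y := fun x hx y hy => hρ (by
    rw [map_mul, map_mul]
    exact (hcomm hfr.symm (ρ x) (ρ y) (Commute.map (hψK x hx) ρ) (Commute.map (hψK y hy) ρ)).eq)
  haveI : IsSimpleGroup (Matrix.ProjectiveSpecialLinearGroup (Fin 2) (ZMod p)) :=
    Matrix.ProjectiveSpecialLinearGroup.rank_two_simple (by
      rw [Nat.card_eq_fintype_card, ZMod.card]; omega)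
  let π : G →* Matrix.ProjectiveSpecialLinearGroup (Fin 2) (ZMod p) :=
    e.toMonoidHom.comp (QuotientGroup.mk' ψ.ker)
  have hπ : Function.Surjective π := e.surjective.comp (QuotientGroup.mk'_surjective _)
  have hπker : ∀ g, π g = 1 ↔ g ∈ ψ.ker := fun g => by
    show e (QuotientGroup.mk' ψ.ker g) = 1 ↔ _
    rw [e.map_eq_one_iff, QuotientGroup.mk'_apply, QuotientGroup.eq_one_iff]
  set C := Subgroup.centralizer (ψ.ker : Set G) with hC
  have hKC : ψ.ker ≤ C := fun x hx => Subgroup.mem_centralizer_iff.2 fun y hy => (hKab y hy x hx).eq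
  have huC : u ∈ C := Subgroup.mem_centralizer_iff.2 fun y hy => (hψK y hy).eq
  have hmap : C.map π = ⊤ := by
    refine (IsSimpleGroup.eq_bot_or_eq_top_of_normal (C.map π)
      (Subgroup.Normal.map inferInstance π hπ)).resolve_left fun h => ?_
    have hm : π u ∈ C.map π := Subgroup.mem_map_of_mem _ huC
    rw [h, Subgroup.mem_bot, hπker] at hm
    exact hψu hm
  have hKcenter : ψ.ker ≤ Subgroup.center G := by
    intro x hx
    rw [Subgroup.mem_center_iff]
    intro g
    obtain ⟨c, hc, hcg⟩ := (Subgroup.mem_map.1 (hmap ▸ Subgroup.mem_top (π g)) : _)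
    have hmem : c⁻¹ * g ∈ C := hKC ((hπker _).1 (by rw [map_mul, map_inv, hcg, inv_mul_cancel]))
    have hg : g ∈ C := by simpa using mul_mem hc hmem
    exact (Subgroup.mem_centralizer_iff.1 hg x hx).symm
  have hcenter : Subgroup.center G = ψ.ker := by
    refine le_antisymm (fun x hx => ?_) hKcenter
    rw [← hπker]
    have hmem : π x ∈ Subgroup.center (Matrix.ProjectiveSpecialLinearGroup (Fin 2) (ZMod p)) := by
      rw [Subgroup.mem_center_iff]
      intro y
      obtain ⟨g, rfl⟩ := hπ y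
      rw [← map_mul, ← map_mul, Subgroup.mem_center_iff.1 hx g]
    rcases IsSimpleGroup.eq_bot_or_eq_top_of_normal
      (Subgroup.center (Matrix.ProjectiveSpecialLinearGroup (Fin 2) (ZMod p))) inferInstance with h | h
    · rwa [h, Subgroup.mem_bot] at hmem
    · exfalso
      refine Cfsg.Lib.Dickson.not_isSolvable_psl (K := ZMod p) (by rw [ZMod.card]; omega)
        (IsSimpleGroup.comm_iff_isSolvable.1 fun a b => ?_)
      exact (Subgroup.mem_center_iff.1 (h ▸ Subgroup.mem_top b) a)
  exact ⟨(QuotientGroup.quotientMulEquivOfEq hcenter).trans e⟩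

end Cfsg.Lib.HalfDeg
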