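import Cfsg.Agent.Lib.HalfDeg.Triple

/-!
# The orthogonal summand
-/

set_option autoImplicit false
set_option linter.unusedSectionVars false
set_option maxHeartbeats 1000000

namespace Cfsg.Lib.HalfDeg

namespace TripleData

variable {k : Type*} [Field k] {G : Type*} [Group G] {M : Type*} [AddCommGroup M] [Module k M]
variable {p : ℕ} {ρ : G →* Module.End k M} (T : TripleData p ρ)

/-- The line-preserving projection onto the span of `Y`, `A Y` and `X`. -/
def proj (Y : M) (μ : M →ₗ[k] k) : Module.End k M :=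
  (μ.comp (T.A * T.A)).smulRight Y + (μ.comp T.A).smulRight (T.A Y) + μ.smulRight T.X

/-- The invariant form before averaging. -/
def form0 (μ : M →ₗ[k] k) : M →ₗ[k] M →ₗ[k] k :=
  μ.smulRight (μ.comp (T.A * T.A)) + (μ.comp (T.A * T.A)).smulRight μ -
    (μ.comp T.A).smulRight (μ.comp T.A)

theorem A_D_apply (v : M) : T.A ((T.D ^ 3) v) = (T.D ^ 3) (T.A v) := by
  have hc : Commute (T.D ^ 3) T.A := by
    rw [A]
    exact ((Commute.refl T.D).pow_left 3).sub_right
      ((((Commute.refl T.D).pow_left 3).pow_right 2).smul_right _)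
  exact (LinearMap.congr_fun hc.eq v).symm

/-- The properties of the projection. -/
theorem exists_proj [Finite G] [Fact p.Prime] [CharP k p] (h2 : (2 : k) ≠ 0) :
    ∃ (e : Module.End k M) (β : M →ₗ[k] M →ₗ[k] k) (Y : M),
      IsIdempotentElem e ∧ Module.finrank k (LinearMap.range e) = 3 ∧
      (∀ g ∈ Subgroup.normalizer (Subgroup.zpowers T.u : Set G), Commute (ρ g) e) ∧
      e T.X = T.X ∧ (∀ v, T.D (e v) = 0 → ∃ c : k, e v = c • T.X) ∧ e Y = Y ∧
      (∀ g ∈ Subgroup.normalizer (Subgroup.zpowers T.u : Set G), ∀ v w,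
        β (ρ g v) (ρ g w) = β v w) ∧
      (∀ v w, β v w = β w v) ∧ β T.X T.X = 0 ∧ β T.X Y = 1 ∧
      (T.D ^ 3) Y = 0 ∧ (∀ v, (T.D ^ 1) v = 0 → β T.X v = 0) := by
  obtain ⟨Y, hY3, hY, hYH⟩ := T.exists_vector h2
  obtain ⟨μ, hμD, hμH, hμX, hμAY, hμY⟩ := T.exists_functional h2 Y hY3 hY hYH
  have hDX : T.D T.X = 0 := T.hXfix
  have hAX : T.A T.X = 0 := by simp [A, pow_two, Module.End.mul_apply, hDX]
  have happ : ∀ v, T.proj Y μ v = μ (T.A (T.A v)) • Y + μ (T.A v) • T.A Y + μ v • T.X := fun v => rfl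
  have hform : ∀ v w, T.form0 μ v w =
      μ v * μ (T.A (T.A w)) + μ (T.A (T.A v)) * μ w - μ (T.A v) * μ (T.A w) := fun v w => by
    simp [form0, smul_eq_mul, Module.End.mul_apply]
  have hD2Y : (T.D ^ 2) Y = T.X := (T.A_sq_apply h2 hY3).symm.trans hY
  have hAYD : T.A Y = T.D Y - (2⁻¹ : k) • T.X := by
    show T.D Y - (2⁻¹ : k) • (T.D ^ 2) Y = _
    rw [hD2Y]
  have heY : T.proj Y μ Y = Y := by
    rw [happ, hY, hμX, hμAY, hμY, one_smul, zero_smul, zero_smul, add_zero, add_zero]
  have heAY : T.proj Y μ (T.A Y) = T.A Y := by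
    rw [happ, hY, hAX, map_zero, hμX, hμAY, zero_smul, zero_smul, one_smul, zero_add, add_zero]
  have heX : T.proj Y μ T.X = T.X := by
    rw [happ, hAX, map_zero, map_zero, hμX, zero_smul, zero_smul, one_smul, zero_add, zero_add]
  have hidem : IsIdempotentElem (T.proj Y μ) := LinearMap.ext fun v => by
    rw [Module.End.mul_apply, happ v, map_add, map_add, map_smul, map_smul, map_smul, heY, heAY, heX]
  -- invariance under `u`
  obtain ⟨g, hg⟩ := T.U_eq h2
  have hDA3 : ∀ v, T.A ((T.D ^ 3) v) = (T.D ^ 3) (T.A v) := T.A_D_apply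
  have hU : ∀ v, ρ T.u v = v + T.A v + (2⁻¹ : k) • T.A (T.A v) + (T.D ^ 3) (g v) := fun v => by
    rw [hg]; rfl
  have hA3 : ∀ v, μ (T.A (T.A (T.A v))) = 0 := by
    intro v
    have hc : T.A * T.A * T.A = T.D ^ 3 * ((1 : Module.End k M) - (2⁻¹ : k) • T.D) ^ 3 := by
      have e : T.A = T.D * (1 - (2⁻¹ : k) • T.D) := by
        rw [A, mul_sub, mul_one, mul_smul_comm, pow_two]
      rw [← ((Commute.one_right T.D).sub_right ((Commute.refl T.D).smul_right _)).mul_pow, ← e,
        pow_succ, pow_two]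
    rw [← Module.End.mul_apply T.A T.A, ← Module.End.mul_apply, hc, Module.End.mul_apply, hμD]
  have hμU : ∀ v, μ (ρ T.u v) = μ v + μ (T.A v) + (2⁻¹ : k) * μ (T.A (T.A v)) ∧
      μ (T.A (ρ T.u v)) = μ (T.A v) + μ (T.A (T.A v)) ∧
      μ (T.A (T.A (ρ T.u v))) = μ (T.A (T.A v)) := by
    intro v
    refine ⟨?_, ?_, ?_⟩
    · rw [hU, map_add, map_add, map_add, map_smul, hμD, add_zero, smul_eq_mul]
    · rw [hU, map_add, map_add, map_add, map_smul, hDA3, map_add, map_add, map_add, map_smul, hμD,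
        hA3, smul_zero, add_zero, add_zero]
    · simp only [hU, map_add, map_smul, hDA3, hμD, hA3, smul_zero, add_zero]
  have heU : Commute (ρ T.u) (T.proj Y μ) := LinearMap.ext fun v => by
    obtain ⟨a, b, c⟩ := hμU v
    have hUY : ρ T.u Y = Y + T.A Y + (2⁻¹ : k) • T.X := by
      have hlhs : ρ T.u Y = Y + T.D Y := by rw [D]; simp
      rw [hlhs, hAYD]
      abel
    have hUAY : ρ T.u (T.A Y) = T.A Y + T.X := by
      have hlhs : ρ T.u (T.A Y) = T.A Y + T.D (T.A Y) := by rw [D]; simp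
      rw [hlhs]
      congr 1
      rw [hAYD, map_sub, map_smul, hDX, smul_zero, sub_zero, ← Module.End.mul_apply, ← pow_two, hD2Y]
    have hUX : ρ T.u T.X = T.X := by
      have h := hDX
      rwa [D, LinearMap.sub_apply, Module.End.one_apply, sub_eq_zero] at h
    rw [Module.End.mul_apply, Module.End.mul_apply, happ v, map_add, map_add, map_smul, map_smul,
      map_smul, hUY, hUAY, hUX, happ, a, b, c]
    simp only [smul_add, add_smul, mul_smul]
    rw [smul_comm (μ (T.A (T.A v))) (2⁻¹ : k)]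
    abel
  have heH : ∀ h ∈ T.H, Commute (ρ h) (T.proj Y μ) := fun h hh => LinearMap.ext fun v => by
    obtain ⟨b, c⟩ := T.mu_A_equiv h2 hμD hμH ⟨h, hh⟩ v
    have hAY' : ρ h (T.A Y) = T.A Y := by
      obtain ⟨e1, q, -, hq⟩ := exists_log_pow (2⁻¹ : k) (mul_inv_cancel₀ h2) (T.r ⟨h, hh⟩)
      have hq' := congrArg (fun f => (Polynomial.aeval T.D f) Y) hq
      simp only [map_sub, map_add, map_mul, map_pow, map_one, map_natCast, Polynomial.aeval_X,
        Polynomial.aeval_C, ← Algebra.smul_def, LinearMap.sub_apply, LinearMap.add_apply,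
        LinearMap.smul_apply, Module.End.mul_apply] at hq'
      have h6 : (T.D ^ 3) ((Polynomial.aeval T.D q) Y) = 0 := by
        have hpc : Commute T.D (Polynomial.aeval T.D q) := by
          have := (Commute.all (Polynomial.X : Polynomial k) q).map (Polynomial.aeval T.D)
          rwa [Polynomial.aeval_X] at this
        rw [← Module.End.mul_apply, (hpc.pow_left 3).eq, Module.End.mul_apply, hY3, map_zero]
      have hL : ρ h (T.A Y) = (T.al ⟨h, hh⟩)⁻¹ •
          (((1 + T.D) ^ T.r ⟨h, hh⟩ - 1) Y - (2⁻¹ : k) • (((1 + T.D) ^ T.r ⟨h, hh⟩ - 1) ^ 2 : Module.End k M) Y) := by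
        have e : T.A Y = T.D Y - (2⁻¹ : k) • (T.D ^ 2) Y := rfl
        rw [e, map_sub, map_smul, ← Module.End.mul_apply, ← Module.End.mul_apply, T.rho_D ⟨h, hh⟩,
          T.rho_D_pow ⟨h, hh⟩, Module.End.mul_apply, Module.End.mul_apply, hYH ⟨h, hh⟩, map_smul,
          map_smul, smul_comm (2⁻¹ : k), ← smul_sub]
      rw [hL, LinearMap.sub_apply, hq', h6, add_zero, ← map_sub]
      show (T.al ⟨h, hh⟩)⁻¹ • ((T.r ⟨h, hh⟩ : Module.End k M) (T.A Y)) = T.A Y
      rw [Module.End.natCast_apply, ← Nat.cast_smul_eq_nsmul k, smul_smul]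
      show ((T.al ⟨h, hh⟩)⁻¹ * T.al ⟨h, hh⟩) • T.A Y = T.A Y
      rw [inv_mul_cancel₀ (T.al_ne _), one_smul]
    rw [Module.End.mul_apply, Module.End.mul_apply, happ v, map_add, map_add, map_smul, map_smul,
      map_smul, hYH ⟨h, hh⟩, hAY', T.hXH ⟨h, hh⟩, happ, hμH ⟨h, hh⟩ v, b, c, smul_smul, smul_smul,
      mul_comm (μ v), mul_comm (μ (T.A (T.A v)))]
    rfl
  have hfU : ∀ v w, T.form0 μ (ρ T.u v) (ρ T.u w) = T.form0 μ v w := fun v w => by
    rw [hform, hform, (hμU v).1, (hμU v).2.1, (hμU v).2.2, (hμU w).1, (hμU w).2.1, (hμU w).2.2]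
    field_simp
    ring
  have hfH : ∀ h ∈ T.H, ∀ v w, T.form0 μ (ρ h v) (ρ h w) = T.form0 μ v w := fun h hh v w => by
    obtain ⟨b, c⟩ := T.mu_A_equiv h2 hμD hμH ⟨h, hh⟩ v
    obtain ⟨b', c'⟩ := T.mu_A_equiv h2 hμD hμH ⟨h, hh⟩ w
    rw [hform, hform, hμH ⟨h, hh⟩ v, hμH ⟨h, hh⟩ w, b, c, b', c']
    field_simp [T.al_ne]
  refine ⟨T.proj Y μ, T.form0 μ, Y, hidem, ?_, ?_, heX, ?_, heY, ?_, ?_, ?_, ?_, hY3, ?_⟩
  · have hrange : LinearMap.range (T.proj Y μ) = Submodule.span k (Set.range ![Y, T.A Y, T.X]) := by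
      refine le_antisymm ?_ (Submodule.span_le.2 ?_)
      · rintro _ ⟨v, rfl⟩
        rw [happ]
        exact add_mem (add_mem (Submodule.smul_mem _ _ (Submodule.subset_span ⟨0, rfl⟩))
          (Submodule.smul_mem _ _ (Submodule.subset_span ⟨1, rfl⟩)))
          (Submodule.smul_mem _ _ (Submodule.subset_span ⟨2, rfl⟩))
      · rintro _ ⟨i, rfl⟩
        fin_cases i
        exacts [⟨Y, heY⟩, ⟨T.A Y, heAY⟩, ⟨T.X, heX⟩]
    rw [hrange, finrank_span_eq_card]
    · simp
    · rw [Fintype.linearIndependent_iff]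
      intro c hc
      rw [Fin.sum_univ_three] at hc
      change c 0 • Y + c 1 • T.A Y + c 2 • T.X = 0 at hc
      have e1 := congrArg (fun v => μ (T.A (T.A v))) hc
      have e2 := congrArg (fun v => μ (T.A v)) hc
      have e3 := congrArg μ hc
      simp only [map_add, map_smul, hY, hAX, map_zero, smul_zero, add_zero, hμX, hμAY, hμY,
        smul_eq_mul, mul_one, mul_zero, zero_add] at e1 e2 e3
      intro i; fin_cases i
      exacts [e1, e2, e3]
  · intro g hgN
    obtain ⟨i, h, hh, rfl⟩ := T.hdecomp g hgN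
    rw [map_mul, map_pow]
    exact (heU.pow_left i).mul_left (heH h hh)
  · intro v hv
    refine ⟨μ v, ?_⟩
    have hAv : T.A (T.proj Y μ v) = 0 := by
      rw [A, LinearMap.sub_apply, LinearMap.smul_apply, pow_two, Module.End.mul_apply, hv, map_zero,
        smul_zero, sub_zero]
    rw [happ, map_add, map_add, map_smul, map_smul, map_smul, hY, hAX, smul_zero, add_zero] at hAv
    have c1 : μ (T.A (T.A v)) = 0 := by
      have := congrArg (fun x => μ (T.A x)) hAv
      simpa [hY, hAX, hμX, hμAY] using this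
    rw [c1, zero_smul, zero_add] at hAv
    have c2 : μ (T.A v) = 0 := by simpa [hμX] using congrArg μ hAv
    rw [happ, c1, c2, zero_smul, zero_smul, zero_add, zero_add]
  · intro g hgN v w
    obtain ⟨i, h, hh, rfl⟩ := T.hdecomp g hgN
    rw [map_mul, map_pow, Module.End.mul_apply, Module.End.mul_apply]
    have hpow : ∀ (j : ℕ) v w, T.form0 μ ((ρ T.u ^ j) v) ((ρ T.u ^ j) w) = T.form0 μ v w := by
      intro j
      induction j with
      | zero => simp
      | succ m ih => intro v w; rw [pow_succ', Module.End.mul_apply, Module.End.mul_apply, hfU, ih]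
    rw [hpow, hfH h hh]
  · intro v w; rw [hform, hform]; ring
  · rw [hform, hAX, map_zero, map_zero, mul_zero, zero_mul, zero_mul, add_zero, sub_zero]
  · rw [hform, hAX, map_zero, map_zero, hY, hμX, zero_mul, zero_mul, mul_one, add_zero, sub_zero]
  · intro v hv
    rw [pow_one] at hv
    have hAv : T.A v = 0 := by simp [A, pow_two, Module.End.mul_apply, hv]
    rw [hform, hAX, map_zero, map_zero, hAv, map_zero, map_zero, mul_zero, zero_mul, zero_mul,
      add_zero, sub_zero]

/-- The three-dimensional orthogonal summand. -/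
theorem exists_summand [Finite G] [hp : Fact p.Prime] [CharP k p] [FiniteDimensional k M]
    (h2 : (2 : k) ≠ 0) :
    ∃ (W : Submodule k M) (B : M →ₗ[k] M →ₗ[k] k), Module.finrank k W = 3 ∧
      (∀ g : G, ∀ w ∈ W, ρ g w ∈ W) ∧ T.X ∈ W ∧
      (∀ w ∈ W, ρ T.u w = w → ∃ c : k, w = c • T.X) ∧
      (∀ g : G, ∀ v w, B (ρ g v) (ρ g w) = B v w) ∧ (∀ v w, B v w = B w v) ∧ B T.X T.X = 0 ∧
      ∀ w ∈ W, (∀ w' ∈ W, B w w' = 0) → w = 0 := by
  classical
  obtain ⟨e, β, Y, hidem, hrk, hcomm, heX, hker, heY, hβinv, hβsymm, hβX, hβY, hY3', hβker⟩ :=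
    T.exists_proj h2
  set Nm := Subgroup.normalizer (Subgroup.zpowers T.u : Set G) with hNm
  haveI : Fintype (G ⧸ Nm) := Fintype.ofFinite _
  have hinv : ∀ g : G, ρ g * ρ g⁻¹ = 1 := fun g => by rw [← map_mul, mul_inv_cancel, map_one]
  let F : G ⧸ Nm → Module.End k M := Quotient.lift (fun g => ρ g * e * ρ g⁻¹) (by
    intro a b hab
    obtain ⟨n, hn, rfl⟩ : ∃ n ∈ Nm, b = a * n :=
      ⟨a⁻¹ * b, QuotientGroup.leftRel_apply.1 hab, by group⟩
    rw [mul_inv_rev, map_mul, map_mul, mul_assoc (ρ a) (ρ n) e, (hcomm n hn).eq,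
      show ρ a * (e * ρ n) * (ρ n⁻¹ * ρ a⁻¹) = ρ a * (e * (ρ n * ρ n⁻¹)) * ρ a⁻¹ by
        simp only [mul_assoc], hinv, mul_one])
  let Bf : G ⧸ Nm → (M →ₗ[k] M →ₗ[k] k) := Quotient.lift (fun g => β.compl₁₂ (ρ g⁻¹) (ρ g⁻¹)) (by
    intro a b hab
    obtain ⟨n, hn, rfl⟩ : ∃ n ∈ Nm, b = a * n :=
      ⟨a⁻¹ * b, QuotientGroup.leftRel_apply.1 hab, by group⟩
    refine LinearMap.ext fun v => LinearMap.ext fun w => ?_
    simp only [LinearMap.compl₁₂_apply, mul_inv_rev, map_mul, Module.End.mul_apply]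
    exact (hβinv n⁻¹ (inv_mem hn) _ _).symm)
  have hFmk : ∀ g : G, F (g : G ⧸ Nm) = ρ g * e * ρ g⁻¹ := fun g => rfl
  have hBmk : ∀ (g : G) v w, Bf (g : G ⧸ Nm) v w = β (ρ g⁻¹ v) (ρ g⁻¹ w) := fun g v w => rfl
  set E : Module.End k M := ∑ q, F q with hE
  set B : M →ₗ[k] M →ₗ[k] k := ∑ q, Bf q with hB
  have hBapp : ∀ v w, B v w = ∑ q, Bf q v w := fun v w => by simp [hB, LinearMap.sum_apply]
  have hFsmul : ∀ (x : G) q, F (x • q) = ρ x * F q * ρ x⁻¹ := by
    intro x q
    induction q using QuotientGroup.induction_on with | _ g =>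
    rw [MulAction.Quotient.smul_coe, smul_eq_mul, hFmk, hFmk, map_mul, mul_inv_rev, map_mul]
    simp only [mul_assoc]
  have hBsmul : ∀ (x : G) q v w, Bf (x • q) v w = Bf q (ρ x⁻¹ v) (ρ x⁻¹ w) := by
    intro x q v w
    induction q using QuotientGroup.induction_on with | _ g =>
    rw [MulAction.Quotient.smul_coe, smul_eq_mul, hBmk, hBmk, mul_inv_rev, map_mul,
      Module.End.mul_apply, Module.End.mul_apply]
  have hEG : ∀ x : G, Commute (ρ x) E := fun x => by
    show ρ x * E = E * ρ x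
    rw [hE, Finset.mul_sum, Finset.sum_mul]
    refine Fintype.sum_equiv (MulAction.toPerm x) _ _ fun q => ?_
    rw [MulAction.toPerm_apply, hFsmul, mul_assoc, ← map_mul, inv_mul_cancel, map_one, mul_one]
  have hBG : ∀ (x : G) v w, B (ρ x v) (ρ x w) = B v w := fun x v w => by
    rw [hBapp, hBapp]
    refine Fintype.sum_equiv (MulAction.toPerm x⁻¹) _ _ fun q => ?_
    rw [MulAction.toPerm_apply, hBsmul, inv_inv]
  -- the action of `u` on the cosets
  let σ : Equiv.Perm (G ⧸ Nm) := MulAction.toPermHom G (G ⧸ Nm) T.u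
  have hσp : σ ^ p = 1 := by rw [← map_pow, T.hu, map_one]
  have hσ : ∀ (i : ℕ) q, (σ ^ i) q = T.u ^ i • q := fun i q => by rw [← map_pow]; rfl
  let q1 : G ⧸ Nm := ((1 : G) : G ⧸ Nm)
  let S : Finset (G ⧸ Nm) := Finset.univ.erase q1
  have hu1 : T.u • q1 = q1 := by
    show ((T.u * 1 : G) : G ⧸ Nm) = _
    rw [mul_one, eq_comm, QuotientGroup.eq, inv_one, one_mul]
    exact Subgroup.le_normalizer (Subgroup.mem_zpowers _)
  have hS : ∀ q, q ∈ S ↔ σ q ∈ S := fun q => by
    simp only [S, Finset.mem_erase, Finset.mem_univ, and_true]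
    show q ≠ q1 ↔ T.u • q ≠ q1
    constructor
    · exact fun h e => h (MulAction.injective T.u (e.trans hu1.symm))
    · exact fun h e => h (by rw [e, hu1])
  have hfree : ∀ q ∈ S, σ q ≠ q := by
    intro q hq hfix
    induction q using QuotientGroup.induction_on with | _ g =>
    change ((T.u * g : G) : G ⧸ Nm) = g at hfix
    rw [eq_comm, QuotientGroup.eq] at hfix
    have hmem : g⁻¹ * T.u * g ∈ Subgroup.zpowers T.u := T.hN _ (by rwa [mul_assoc]) (by
      have := conj_pow (i := p) (a := g⁻¹) (b := T.u)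
      rw [inv_inv, T.hu, mul_one, inv_mul_cancel] at this
      exact this)
    have hle : (Subgroup.zpowers T.u).map (MulAut.conj g⁻¹).toMonoidHom ≤ Subgroup.zpowers T.u := by
      rw [MonoidHom.map_zpowers, Subgroup.zpowers_le]
      simpa using hmem
    have hgN : g⁻¹ ∈ Nm := by
      have heq : (Subgroup.zpowers T.u).map (MulAut.conj g⁻¹).toMonoidHom = Subgroup.zpowers T.u :=
        Subgroup.eq_of_le_of_card_ge hle (le_of_eq (Subgroup.card_map_of_injective
          (MulAut.conj g⁻¹).injective).symm)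
      rw [hNm, Subgroup.mem_normalizer_iff]
      intro x
      constructor
      · intro hx
        rw [← heq]
        exact ⟨x, hx, rfl⟩
      · intro hx
        rw [← heq]at hx
        obtain ⟨y, hy, hxy⟩ := hx
        rw [show x = y from (MulAut.conj g⁻¹).injective hxy.symm]
        exact hy
    refine (Finset.mem_erase.1 hq).1 ?_
    rw [QuotientGroup.eq, mul_one]
    exact hgN
  have hUp : (ρ T.u : Module.End k M) ^ p = 1 := by rw [← map_pow, T.hu, map_one]
  set D := T.D with hD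
  have hRLow : Low D (E - e) := by
    have h : E - e = ∑ q ∈ S, F q := by
      rw [hE, ← Finset.add_sum_erase _ _ (Finset.mem_univ q1)]
      simp [S, q1, hFmk]
    rw [h]
    refine sum_induction_orbits p σ hσp S hS hfree F (Low D) Low.zero (fun a b => Low.add) fun q => ?_
    have : ∑ i ∈ Finset.range p, F ((σ ^ i) q) =
        ∑ i ∈ Finset.range p, ρ T.u ^ i * F q * ρ T.u ^ (p - i) := by
      refine Finset.sum_congr rfl fun i hi => ?_
      rw [hσ, hFsmul, map_pow, show (T.u ^ i)⁻¹ = T.u ^ (p - i) from inv_eq_of_mul_eq_one_right (by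
        rw [← pow_add, Nat.add_sub_cancel' (Finset.mem_range.1 hi).le, T.hu]), map_pow]
    rw [this]
    exact low_trace p hUp T.hd (F q)
  have heD : Commute e D := ((hcomm T.u (Subgroup.le_normalizer (Subgroup.mem_zpowers _))).symm).sub_right
    (Commute.one_right _)
  have hED : Commute E D := (hEG T.u).symm.sub_right (Commute.one_right _)
  set r := E - e with hr
  have hrD : Commute r D := hED.sub_left heD
  -- a lift of the idempotent
  have hpowlow : ∀ (x y : Module.End k M), IsIdempotentElem y → Commute y D → Low D (x - y) →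
      ∀ n : ℕ, 1 ≤ n → Low D (x ^ n - y) := by
    intro x y hy hyD hxy n hn
    induction n, hn using Nat.le_induction with
    | base => rwa [pow_one]
    | succ m _ ih =>
      have h : x ^ (m + 1) - y = (x ^ m - y) * y + (x ^ m - y) * (x - y) + y * (x - y) := by
        rw [pow_succ, sub_mul, sub_mul, mul_sub, mul_sub, hy.eq]
        abel
      rw [h]
      exact ((ih.comp_right hyD).add (ih.mul hxy)).add (hxy.comp_left hyD)
  have hp1 : 1 ≤ p := hp.out.one_le
  set f : Module.End k M := 1 - (1 - E ^ p) ^ p with hf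
  have hflow : Low D (f - e) := by
    have h1 := hpowlow E e hidem heD hRLow p hp1
    have h1' : Low D ((1 - E ^ p) - (1 - e)) := by
      rw [show (1 - E ^ p) - (1 - e) = -(E ^ p - e) by abel]; exact h1.neg
    have h3 := hpowlow _ _ hidem.one_sub ((Commute.one_left D).sub_left heD) h1' p hp1
    rw [show f - e = -((1 - E ^ p) ^ p - (1 - e)) by rw [hf]; abel]
    exact h3.neg
  have hq0 : (E * (1 - E)) ^ p = 0 := by
    refine Low.isNilpotent ?_ T.hd (by omega)
    have h : E * (1 - E) = r - e * r - r * e - r * r := by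
      rw [hr, mul_sub, mul_sub, mul_sub, sub_mul, sub_mul, mul_one, hidem.eq]
      abel
    rw [h]
    exact (((hRLow).sub (hRLow.comp_left heD)).sub (hRLow.comp_right heD)).sub (hRLow.mul hRLow)
  have hfidem : IsIdempotentElem f := by
    have h1 : f = E ^ p * ∑ i ∈ Finset.range p, (1 - E ^ p) ^ i := by
      rw [hf, ← mul_neg_geom_sum (1 - E ^ p) p, sub_sub_cancel]
    have h4 : (1 - E ^ p) ^ p = (1 - E) ^ p * (∑ i ∈ Finset.range p, E ^ i) ^ p := by
      rw [← Commute.mul_pow, mul_neg_geom_sum]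
      exact Commute.sum_right _ _ _ fun i _ =>
        ((Commute.one_left E).sub_left (Commute.refl E)).pow_right i
    have hc : Commute (E ^ p) ((1 - E) ^ p) :=
      ((Commute.one_right E).sub_right (Commute.refl E)).pow_pow p p
    have h0 : f * (1 - f) = 0 := by
      rw [show (1 : Module.End k M) - f = (1 - E ^ p) ^ p by rw [hf]; abel, h1, h4]
      have hc2 : Commute (∑ i ∈ Finset.range p, (1 - E ^ p) ^ i) ((1 - E) ^ p) :=
        Commute.sum_left _ _ _ fun i _ =>
          ((Commute.one_left _).sub_left hc).pow_left i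
      rw [mul_assoc, ← mul_assoc (∑ i ∈ Finset.range p, (1 - E ^ p) ^ i), hc2.eq, ← mul_assoc,
        ← mul_assoc, ← Commute.mul_pow ((Commute.one_right E).sub_right (Commute.refl E)), hq0,
        zero_mul, zero_mul]
    rw [mul_sub, mul_one, sub_eq_zero] at h0
    exact h0.symm
  have hfG : ∀ x : G, Commute (ρ x) f := fun x =>
    (Commute.one_right _).sub_right (((Commute.one_right _).sub_right ((hEG x).pow_right p)).pow_right p)
  have hfX : f T.X = T.X := by
    have := hflow.apply_fixed (show D T.X = 0 from T.hXfix)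
    rw [LinearMap.sub_apply, heX, sub_eq_zero] at this
    exact this
  set W := LinearMap.range f with hW
  have hfW : ∀ w ∈ W, f w = w := by
    rintro _ ⟨v, rfl⟩
    exact LinearMap.congr_fun hfidem.eq v
  have heW : ∀ w ∈ LinearMap.range e, e w = w := by
    rintro _ ⟨v, rfl⟩
    exact LinearMap.congr_fun hidem.eq v
  have hnil : (f - e) ^ p = 0 := hflow.isNilpotent T.hd (by omega)
  have hinjaux : ∀ (a b : Module.End k M), (a - b) ^ p = 0 → ∀ v, a v = v → b v = 0 → v = 0 := by
    intro a b hab v ha hb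
    have h1 : ∀ n : ℕ, ((a - b) ^ n) v = v := by
      intro n
      induction n with
      | zero => rfl
      | succ m ih => rw [pow_succ', Module.End.mul_apply, ih, LinearMap.sub_apply, ha, hb, sub_zero]
    rw [← h1 p, hab]
    rfl
  have hrkW : Module.finrank k W = 3 := by
    rw [← hrk]
    refine le_antisymm ?_ ?_
    · refine LinearMap.finrank_le_finrank_of_injective (f := (e.comp W.subtype).codRestrict
        (LinearMap.range e) fun w => ⟨_, rfl⟩) ?_
      rw [← LinearMap.ker_eq_bot, Submodule.eq_bot_iff]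
      intro w hw
      exact Subtype.ext (hinjaux f e hnil w (hfW w w.2) (congrArg Subtype.val (LinearMap.mem_ker.1 hw)))
    · refine LinearMap.finrank_le_finrank_of_injective
        (f := (f.comp (LinearMap.range e).subtype).codRestrict W fun w => ⟨_, rfl⟩) ?_
      rw [← LinearMap.ker_eq_bot, Submodule.eq_bot_iff]
      intro w hw
      refine Subtype.ext (hinjaux e f ?_ w (heW w w.2) (congrArg Subtype.val (LinearMap.mem_ker.1 hw)))
      rw [← neg_sub f e, neg_pow, hnil, mul_zero]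
  have hWker : ∀ w ∈ W, D w = 0 → ∃ c : k, w = c • T.X := by
    intro w hw hDw
    have h1 := hflow.apply_fixed hDw
    rw [LinearMap.sub_apply, hfW w hw, sub_eq_zero] at h1
    obtain ⟨c, hc⟩ := hker w (by rw [← h1]; exact hDw)
    exact ⟨c, h1.trans hc⟩
  have hBX : ∀ w, B T.X w = β T.X w := by
    intro w
    rw [hBapp, ← Finset.add_sum_erase _ _ (Finset.mem_univ q1)]
    have h0 : ∑ q ∈ S, Bf q T.X w = 0 := by
      refine sum_induction_orbits p σ hσp S hS hfree (fun q => Bf q T.X w) (fun b => b = 0) rfl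
        (fun a b ha hb => by rw [ha, hb, add_zero]) fun q => ?_
      have hXu : ρ T.u T.X = T.X := by
        have h := T.hXfix
        rwa [LinearMap.sub_apply, Module.End.one_apply, sub_eq_zero] at h
      have hXpow : ∀ j : ℕ, (ρ T.u ^ j) T.X = T.X := by
        intro j
        induction j with
        | zero => rfl
        | succ m ih => rw [pow_succ', Module.End.mul_apply, ih, hXu]
      have hterm : ∀ i ∈ Finset.range p,
          Bf ((σ ^ i) q) T.X w = Bf q T.X (((ρ T.u ^ (p - 1)) ^ i) w) := fun i hi => by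
        have e1 : (T.u ^ i)⁻¹ = T.u ^ ((p - 1) * i) := by
          refine inv_eq_of_mul_eq_one_right ?_
          rw [← pow_add, show i + (p - 1) * i = p * i by
            conv_lhs => arg 1; rw [← one_mul i]
            rw [← Nat.add_mul, Nat.add_sub_cancel' hp1], pow_mul, T.hu, one_pow]
        rw [hσ, hBsmul, e1, map_pow, hXpow, pow_mul]
      rw [Finset.sum_congr rfl hterm, ← map_sum, ← LinearMap.sum_apply,
        geom_sum_eq_sub_one_pow (k := k) p]
      have hfac : ∃ g : Module.End k M, (ρ T.u ^ (p - 1) - 1) = g * D ∧ Commute g D := by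
        refine ⟨∑ i ∈ Finset.range (p - 1), ρ T.u ^ i, (geom_sum_mul _ _).symm, ?_⟩
        exact Commute.sum_left _ _ _ fun i _ =>
          (((Commute.refl _).sub_right (Commute.one_right _)).pow_left i)
      obtain ⟨g, hg, hgc⟩ := hfac
      rw [hg, hgc.mul_pow, pow_eq_zero_of_le (by omega : p - 2 ≤ p - 1) (show D ^ (p - 2) = 0 from T.hd), mul_zero,
        LinearMap.zero_apply, map_zero]
    rw [h0, add_zero]
    show β (ρ (1 : G)⁻¹ T.X) (ρ (1 : G)⁻¹ w) = _
    rw [inv_one, map_one]; rfl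
  refine ⟨W, B, hrkW, ?_, ⟨T.X, hfX⟩, fun w hw h => hWker w hw (by
      show (ρ T.u - 1 : Module.End k M) w = 0
      rw [LinearMap.sub_apply, h, Module.End.one_apply, sub_self]), hBG, ?_, ?_, ?_⟩
  · rintro g _ ⟨v, rfl⟩
    exact ⟨ρ g v, (LinearMap.congr_fun (hfG g).eq v).symm⟩
  · intro v w
    rw [hBapp, hBapp]
    refine Finset.sum_congr rfl fun q _ => ?_
    induction q using QuotientGroup.induction_on with | _ g =>
    rw [hBmk, hBmk, hβsymm]
  · rw [hBX, hβX]
  · intro w hw hrad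
    by_contra hne
    -- a fixed vector in the radical
    have hDW : ∀ x ∈ W, D x ∈ W := by
      rintro _ ⟨v, rfl⟩
      refine ⟨D v, ?_⟩
      exact (LinearMap.congr_fun ((hfG T.u).sub_left (Commute.one_left _)).eq v).symm
    have hrad' : ∀ j : ℕ, (D ^ j) w ∈ W ∧ ∀ w' ∈ W, B ((D ^ j) w) w' = 0 := by
      intro j
      induction j with
      | zero => exact ⟨hw, hrad⟩
      | succ m ih =>
        rw [pow_succ', Module.End.mul_apply]
        refine ⟨hDW _ ih.1, fun w' hw' => ?_⟩
        rw [show D ((D ^ m) w) = ρ T.u ((D ^ m) w) - (D ^ m) w from rfl, map_sub, LinearMap.sub_apply,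
          ih.2 w' hw', sub_zero]
        obtain ⟨v', rfl⟩ := hw'
        have h := hBG T.u⁻¹ (ρ T.u ((T.D ^ m) w)) (f v')
        rw [← Module.End.mul_apply (ρ T.u⁻¹), ← map_mul, inv_mul_cancel, map_one, Module.End.one_apply] at h
        rw [← h]
        refine ih.2 _ ⟨ρ T.u⁻¹ v', ?_⟩
        exact (LinearMap.congr_fun (hfG T.u⁻¹).eq v').symm
    obtain ⟨j, hj, hj'⟩ : ∃ j, (D ^ j) w ≠ 0 ∧ (D ^ (j + 1)) w = 0 := by
      by_contra hcon
      push Not at hcon
      have : ∀ j, (D ^ j) w ≠ 0 := fun j => by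
        induction j with
        | zero => simpa using hne
        | succ m ih => exact hcon m ih
      exact this (p - 2) (by rw [show D ^ (p - 2) = 0 from T.hd]; rfl)
    rw [pow_succ', Module.End.mul_apply] at hj'
    obtain ⟨c, hc⟩ := hWker _ (hrad' j).1 hj'
    have h := (hrad' j).2 (f Y) ⟨Y, rfl⟩
    rw [hc, map_smul, LinearMap.smul_apply, hBX] at h
    have hfY : β T.X (f Y) = 1 := by
      have hrY : (D ^ 1) ((f - e) Y) = 0 := by
        refine hflow 3 Y ?_
        exact hY3'
      have hsplit : f Y = Y + (f - e) Y := by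
        conv_rhs => rw [LinearMap.sub_apply (f := f), heY]
        rw [add_sub_cancel]
      rw [hsplit, map_add, hβY, hβker _ hrY, add_zero]
    rw [hfY, smul_eq_mul, mul_one] at h
    exact hj (by rw [hc, h, zero_smul])

end TripleData

end Cfsg.Lib.HalfDeg
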