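import Cfsg.Agent.Lib.HalfDeg.Low

/-!
# A three-dimensional orthogonal summand

A module of a group with a subgroup `P = ⟨u⟩` of order `p` which is a Sylow subgroup, on which
`(u - 1) ^ (p - 2) = 0`, and with a fixed vector `X` in the image of `(u - 1) ^ 2` but outside the
image of `(u - 1) ^ 3` which is an eigenvector for a complement in the normalizer with the
eigenvalue of the action on `P`, has a three-dimensional orthogonal summand containing `X`: the
relative trace of the projection from the normalizer is idempotent modulo operators lowering the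
filtration.
-/

set_option autoImplicit false
set_option linter.unusedSectionVars false
set_option maxHeartbeats 1000000

namespace Cfsg.Lib.HalfDeg

open Polynomial in
/-- The truncated logarithm is additive modulo `X ^ 3`. -/
theorem exists_log_pow {k : Type*} [Field k] (c : k) (hc : 2 * c = 1) (r : ℕ) : ∃ e q : k[X],
    (1 + X) ^ r - 1 = X * e ∧
      ((1 + X) ^ r - 1) - C c * ((1 + X) ^ r - 1) ^ 2 = (r : k[X]) * (X - C c * X ^ 2) + X ^ 3 * q := by
  have h2 : 2 * C c = (1 : k[X]) := by rw [← C_1, ← hc, map_mul, map_ofNat]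
  induction r with
  | zero => exact ⟨0, 0, by simp, by simp⟩
  | succ j ih =>
    obtain ⟨e, q, he, hq⟩ := ih
    refine ⟨e + 1 + X * e, q - e ^ 2 - e - C c * e ^ 2 * X, ?_, ?_⟩
    · rw [pow_succ]; linear_combination (1 + X) * he
    · have he' : (1 + X) ^ (j + 1) - 1 = X * e + X + X * X * e := by
        rw [pow_succ]; linear_combination (1 + X) * he
      rw [he] at hq
      rw [he', Nat.cast_add, Nat.cast_one]
      linear_combination hq - (X ^ 2 * e + X ^ 3 * e + X ^ 3 * e ^ 2) * h2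

variable {k : Type*} [Field k] {G : Type*} [Group G] {M : Type*} [AddCommGroup M] [Module k M]

/-- The input for the construction. -/
structure TripleData (p : ℕ) (ρ : G →* Module.End k M) where
  u : G
  H : Subgroup G
  r : H → ℕ
  X : M
  Y0 : M
  μ0 : M →ₗ[k] k
  hu : u ^ p = 1
  hd : (ρ u - 1) ^ (p - 2) = 0
  hN : ∀ g : G, g ∈ Subgroup.normalizer (Subgroup.zpowers u : Set G) → g ^ p = 1 →
    g ∈ Subgroup.zpowers u
  hHN : H ≤ Subgroup.normalizer (Subgroup.zpowers u : Set G)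
  hcard : (Nat.card H : k) ≠ 0
  hdecomp : ∀ g : G, g ∈ Subgroup.normalizer (Subgroup.zpowers u : Set G) →
    ∃ i : ℕ, ∃ h ∈ H, g = u ^ i * h
  hr : ∀ h : H, (h : G) * u * (h : G)⁻¹ = u ^ r h
  hXfix : (ρ u - 1 : Module.End k M) X = 0
  hXH : ∀ h : H, ρ (h : G) X = (r h : k) • X
  hY0 : ((ρ u - 1) ^ 2 : Module.End k M) Y0 = X
  hμX : μ0 X = 1
  hμD : ∀ v, μ0 (((ρ u - 1) ^ 3 : Module.End k M) v) = 0

namespace TripleData

variable {p : ℕ} {ρ : G →* Module.End k M} (T : TripleData p ρ)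

/-- The unipotent operator. -/
def U : Module.End k M := ρ T.u

/-- Its difference from the identity. -/
def D : Module.End k M := ρ T.u - 1

/-- The truncated logarithm. -/
def A : Module.End k M := T.D - (2⁻¹ : k) • T.D ^ 2

/-- The eigenvalue on `X`. -/
def al (h : T.H) : k := (T.r h : k)

theorem al_mul (g h : T.H) : T.al (g * h) = T.al g * T.al h := by
  have h1 := congrArg T.μ0 (T.hXH (g * h))
  have h2 : ρ ((g * h : T.H) : G) T.X = (T.al g * T.al h) • T.X := by
    rw [Subgroup.coe_mul, map_mul, Module.End.mul_apply, T.hXH, map_smul, T.hXH, smul_smul, mul_comm]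
    rfl
  rw [h2] at h1
  simpa [T.hμX, al] using h1.symm

theorem al_one : T.al 1 = 1 := by
  have h1 := congrArg T.μ0 (T.hXH 1)
  simpa [T.hμX, al] using h1.symm

theorem al_ne (h : T.H) : T.al h ≠ 0 := fun e => by
  have := T.al_mul h h⁻¹
  rw [mul_inv_cancel, T.al_one, e, zero_mul] at this
  exact one_ne_zero this

theorem al_inv (h : T.H) : T.al h⁻¹ = (T.al h)⁻¹ := by
  refine eq_inv_of_mul_eq_one_left ?_
  rw [← T.al_mul, inv_mul_cancel, T.al_one]

theorem rho_pow (n : ℕ) : ρ (T.u ^ n) = (1 + T.D) ^ n := by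
  rw [map_pow, D, add_sub_cancel]

theorem rho_conj (h : T.H) : ρ (h : G) * ρ T.u = (1 + T.D) ^ T.r h * ρ (h : G) := by
  rw [← T.rho_pow, ← map_mul, ← map_mul, ← T.hr, inv_mul_cancel_right]

theorem rho_D (h : T.H) : ρ (h : G) * T.D = ((1 + T.D) ^ T.r h - 1) * ρ (h : G) := by
  rw [sub_mul, one_mul, ← T.rho_conj, D, mul_sub, mul_one]

theorem rho_D_pow (h : T.H) (j : ℕ) :
    ρ (h : G) * T.D ^ j = ((1 + T.D) ^ T.r h - 1) ^ j * ρ (h : G) := by
  induction j with
  | zero => simp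
  | succ i ih => rw [pow_succ, ← mul_assoc, ih, mul_assoc, T.rho_D, ← mul_assoc, ← pow_succ]

theorem exists_D_factor (h : T.H) (j : ℕ) :
    ∃ g : Module.End k M, ρ (h : G) * T.D ^ j = T.D ^ j * g := by
  obtain ⟨e, he⟩ : ∃ e, (1 + T.D) ^ T.r h - 1 = T.D * e ∧ Commute T.D e := by
    refine ⟨∑ i ∈ Finset.range (T.r h), (1 + T.D) ^ i, ?_, ?_⟩
    · rw [← mul_geom_sum, add_sub_cancel_left]
    · exact Commute.sum_right _ _ _ fun i _ =>
        ((Commute.one_right _).add_right (Commute.refl _)).pow_right i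
  refine ⟨e ^ j * ρ (h : G), ?_⟩
  rw [T.rho_D_pow, he.1, he.2.mul_pow, mul_assoc]

theorem D_pow_rho (h : T.H) (j : ℕ) :
    ∃ g : Module.End k M, T.D ^ j * ρ (h : G) = g * T.D ^ j := by
  obtain ⟨e, he⟩ : ∃ e, (1 + T.D) ^ T.r h⁻¹ - 1 = T.D * e ∧ Commute T.D e := by
    refine ⟨∑ i ∈ Finset.range (T.r h⁻¹), (1 + T.D) ^ i, ?_, ?_⟩
    · rw [← mul_geom_sum, add_sub_cancel_left]
    · exact Commute.sum_right _ _ _ fun i _ =>
        ((Commute.one_right _).add_right (Commute.refl _)).pow_right i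
  refine ⟨ρ (h : G) * e ^ j, ?_⟩
  have h1 := T.rho_D_pow h⁻¹ j
  rw [he.1, he.2.mul_pow] at h1
  have h2 : ρ (h : G) * ρ ((h⁻¹ : T.H) : G) = 1 := by rw [← map_mul]; simp
  have h3 : ρ ((h⁻¹ : T.H) : G) * ρ (h : G) = 1 := by rw [← map_mul]; simp
  have he' : e ^ j * T.D ^ j = T.D ^ j * e ^ j := (he.2.pow_pow j j).eq.symm
  calc T.D ^ j * ρ (h : G) = ρ (h : G) * (ρ ((h⁻¹ : T.H) : G) * T.D ^ j) * ρ (h : G) := by
        rw [← mul_assoc, h2, one_mul]
    _ = ρ (h : G) * e ^ j * T.D ^ j := by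
        rw [h1, ← he', mul_assoc, mul_assoc, mul_assoc, h3, mul_one, ← mul_assoc]

theorem mu_D_of_equiv {μ : M →ₗ[k] k} (hμ : ∀ v, μ ((T.D ^ 3) v) = 0) (h : T.H) (v : M) :
    μ (ρ (h : G) ((T.D ^ 3) v)) = 0 := by
  obtain ⟨g, hg⟩ := T.exists_D_factor h 3
  rw [← Module.End.mul_apply, hg, Module.End.mul_apply, hμ]

variable (h2 : (2 : k) ≠ 0)
include h2

theorem rho_A (h : T.H) : ∃ g : Module.End k M,
    ρ (h : G) * T.A = T.al h • (T.A * ρ (h : G)) + T.D ^ 3 * g := by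
  obtain ⟨e, q, -, hq⟩ := exists_log_pow (2⁻¹ : k) (mul_inv_cancel₀ h2) (T.r h)
  refine ⟨Polynomial.aeval T.D q * ρ (h : G), ?_⟩
  have := congrArg (Polynomial.aeval T.D) hq
  simp only [map_sub, map_add, map_mul, map_pow, map_one, map_natCast, Polynomial.aeval_X,
    Polynomial.aeval_C, ← Algebra.smul_def] at this
  rw [A, mul_sub, mul_smul_comm, T.rho_D, T.rho_D_pow, ← smul_mul_assoc, ← sub_mul, this, add_mul,
    mul_assoc (T.D ^ 3)]
  congr 1
  rw [← smul_mul_assoc]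
  congr 1
  rw [al, Nat.cast_smul_eq_nsmul, nsmul_eq_mul]

theorem U_eq : ∃ g : Module.End k M, ρ T.u = 1 + T.A + (2⁻¹ : k) • (T.A * T.A) + T.D ^ 3 * g := by
  have h := congrArg (Polynomial.aeval T.D) (show
    (Polynomial.X : Polynomial k) = (Polynomial.X - Polynomial.C (2⁻¹ : k) * Polynomial.X ^ 2) +
      Polynomial.C (2⁻¹ : k) * ((Polynomial.X - Polynomial.C (2⁻¹ : k) * Polynomial.X ^ 2) *
        (Polynomial.X - Polynomial.C (2⁻¹ : k) * Polynomial.X ^ 2)) +
      Polynomial.X ^ 3 * (Polynomial.C (2⁻¹ : k) * (1 - Polynomial.C (2⁻¹ : k) ^ 2 * Polynomial.X)) by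
    have hc : 2 * Polynomial.C (2⁻¹ : k) = 1 := by
      rw [← Polynomial.C_1, ← mul_inv_cancel₀ h2, map_mul, map_ofNat]
    linear_combination (Polynomial.X ^ 3 * Polynomial.C (2⁻¹ : k)) * hc)
  simp only [map_sub, map_add, map_mul, map_pow, map_one, Polynomial.aeval_X, Polynomial.aeval_C,
    ← Algebra.smul_def] at h
  refine ⟨(Polynomial.aeval T.D) (Polynomial.C (2⁻¹ : k) *
    (1 - Polynomial.C (2⁻¹ : k) ^ 2 * Polynomial.X)), ?_⟩
  simp only [map_sub, map_add, map_mul, map_pow, map_one, Polynomial.aeval_X, Polynomial.aeval_C,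
    ← Algebra.smul_def]
  rw [show ρ T.u = 1 + T.D by rw [D, add_sub_cancel], A]
  conv_lhs => rw [h]
  abel

theorem mu_A_equiv {μ : M →ₗ[k] k} (hμ : ∀ v, μ ((T.D ^ 3) v) = 0)
    (hμh : ∀ (h : T.H) v, μ (ρ (h : G) v) = T.al h * μ v) (h : T.H) (v : M) :
    μ (T.A (ρ (h : G) v)) = μ (T.A v) ∧
      μ (T.A (T.A (ρ (h : G) v))) = (T.al h)⁻¹ * μ (T.A (T.A v)) := by
  obtain ⟨g, hg⟩ := T.rho_A h2 h
  have happ : ∀ w, T.A (ρ (h : G) w) = (T.al h)⁻¹ • (ρ (h : G) (T.A w) - (T.D ^ 3) (g w)) := by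
    intro w
    have := LinearMap.congr_fun hg w
    simp only [Module.End.mul_apply, LinearMap.add_apply, LinearMap.smul_apply] at this
    rw [this, add_sub_cancel_right, smul_smul, inv_mul_cancel₀ (T.al_ne h), one_smul]
  have h1 : ∀ w, μ (T.A (ρ (h : G) w)) = μ (T.A w) := by
    intro w
    rw [happ, map_smul, map_sub, hμh, hμ, sub_zero, smul_eq_mul, ← mul_assoc,
      inv_mul_cancel₀ (T.al_ne h), one_mul]
  refine ⟨h1 v, ?_⟩
  rw [happ, map_smul, map_smul, map_sub, map_sub, h1, smul_eq_mul]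
  have hc : Commute T.A (T.D ^ 3) := by
    rw [A]
    exact ((Commute.refl T.D).pow_right 3).sub_left
      ((((Commute.refl T.D).pow_left 2).pow_right 3).smul_left _)
  rw [← Module.End.mul_apply T.A (T.D ^ 3), hc.eq, Module.End.mul_apply, hμ, sub_zero]

theorem A_sq_apply {v : M} (hv : (T.D ^ 3) v = 0) : T.A (T.A v) = (T.D ^ 2) v := by
  rw [← Module.End.mul_apply, A]
  have : (T.D - (2⁻¹ : k) • T.D ^ 2) * (T.D - (2⁻¹ : k) • T.D ^ 2) =
      T.D ^ 2 + ((2⁻¹ * 2⁻¹ : k) • T.D - (1 : Module.End k M)) * T.D ^ 3 := by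
    have hc : 2 * Polynomial.C (2⁻¹ : k) = 1 := by
      rw [← Polynomial.C_1, ← mul_inv_cancel₀ h2, map_mul, map_ofNat]
    have h := congrArg (Polynomial.aeval T.D) (show
      (Polynomial.X - Polynomial.C (2⁻¹ : k) * Polynomial.X ^ 2) *
        (Polynomial.X - Polynomial.C (2⁻¹ : k) * Polynomial.X ^ 2) =
      Polynomial.X ^ 2 + (Polynomial.C (2⁻¹ : k) * (Polynomial.C (2⁻¹ : k) * Polynomial.X) - 1) *
        Polynomial.X ^ 3 by
      linear_combination (-Polynomial.X ^ 3) * hc)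
    simpa only [map_sub, map_add, map_mul, map_pow, map_one, Polynomial.aeval_X, Polynomial.aeval_C,
      ← Algebra.smul_def, smul_smul] using h
  rw [this, LinearMap.add_apply, Module.End.mul_apply, hv, map_zero, add_zero]

variable [Finite G]

theorem exists_vector : ∃ Y : M, (T.D ^ 3) Y = 0 ∧ T.A (T.A Y) = T.X ∧
    ∀ h : T.H, ρ (h : G) Y = (T.al h)⁻¹ • Y := by
  have : Fintype T.H := Fintype.ofFinite _
  have h3Y0 : (T.D ^ 3) T.Y0 = 0 := by
    rw [pow_succ', Module.End.mul_apply, show (T.D ^ 2) T.Y0 = T.X from T.hY0]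
    exact T.hXfix
  have hcard : (Fintype.card T.H : k) ≠ 0 := by rw [← Nat.card_eq_fintype_card]; exact T.hcard
  set Y := (Fintype.card T.H : k)⁻¹ • ∑ h : T.H, T.al h • ρ (h : G) T.Y0 with hY
  have h3 : ∀ h : T.H, (T.D ^ 3) (ρ (h : G) T.Y0) = 0 := fun h => by
    obtain ⟨g, hg⟩ := T.D_pow_rho h 3
    rw [← Module.End.mul_apply, hg, Module.End.mul_apply, h3Y0, map_zero]
  have hY3 : (T.D ^ 3) Y = 0 := by
    rw [hY, map_smul, map_sum]
    simp [map_smul, h3]
  have h2' : ∀ h : T.H, T.A (T.A (ρ (h : G) T.Y0)) = (T.al h)⁻¹ • T.X := fun h => by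
    obtain ⟨g, hg⟩ := T.rho_A h2 h
    have hA3 : ∀ w, (T.D ^ 3) w = 0 → (T.D ^ 3) (T.A w) = 0 := fun w hw => by
      rw [← Module.End.mul_apply,
        show T.D ^ 3 * T.A = T.A * T.D ^ 3 by
          rw [A, mul_sub, sub_mul, mul_smul_comm, smul_mul_assoc, ← pow_succ, ← pow_succ', ← pow_add, ← pow_add],
        Module.End.mul_apply, hw, map_zero]
    have h22 := T.A_sq_apply h2 (h3 h)
    rw [h22]
    obtain ⟨e, q, he, hq⟩ := exists_log_pow (2⁻¹ : k) (mul_inv_cancel₀ h2) (T.r h)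
    have hE : ∃ g' : Module.End k M, ((1 + T.D) ^ T.r h - 1) ^ 2 =
        (T.al h) ^ 2 • T.D ^ 2 + g' * T.D ^ 3 := by
      obtain ⟨s, hs⟩ : ∃ s : Polynomial k, ((1 + Polynomial.X) ^ T.r h - 1) ^ 2 =
          (T.r h : Polynomial k) ^ 2 * Polynomial.X ^ 2 + s * Polynomial.X ^ 3 := by
        have hd : Polynomial.X ∣ e - (T.r h : Polynomial k) := by
          rw [Polynomial.X_dvd_iff, Polynomial.coeff_sub, Polynomial.coeff_natCast_ite, if_pos rfl]
          have hc := congrArg (fun f => Polynomial.coeff f 1) he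
          simp only [Polynomial.coeff_sub, Polynomial.coeff_X_mul, Polynomial.coeff_one,
            Polynomial.coeff_one_add_X_pow, Nat.choose_one_right] at hc
          simp at hc
          rw [← hc, sub_self]
        obtain ⟨t, ht⟩ := hd
        refine ⟨t * (e + (T.r h : Polynomial k)), ?_⟩
        rw [he]
        linear_combination Polynomial.X ^ 2 * (e + (T.r h : Polynomial k)) * ht
      refine ⟨Polynomial.aeval T.D s, ?_⟩
      have := congrArg (Polynomial.aeval T.D) hs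
      simp only [map_sub, map_add, map_mul, map_pow, map_one, map_natCast, Polynomial.aeval_X] at this
      rw [this, al, Algebra.smul_def, map_pow, map_natCast]
    obtain ⟨g', hg'⟩ := hE
    have h5 := LinearMap.congr_fun (T.rho_D_pow h 2) T.Y0
    rw [Module.End.mul_apply, show (T.D ^ 2) T.Y0 = T.X from T.hY0, T.hXH, hg', Module.End.mul_apply,
      LinearMap.add_apply, LinearMap.smul_apply, Module.End.mul_apply, h3, map_zero, add_zero] at h5
    change T.al h • T.X = _ at h5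
    refine (smul_right_injective M (pow_ne_zero 2 (T.al_ne h)) ?_)
    show T.al h ^ 2 • (T.D ^ 2) (ρ (h : G) T.Y0) = T.al h ^ 2 • (T.al h)⁻¹ • T.X
    rw [← h5, smul_smul]
    congr 1
    field_simp [T.al_ne h]
  refine ⟨Y, hY3, ?_, fun h' => ?_⟩
  · simp only [hY, map_smul, map_sum, h2', smul_smul, mul_inv_cancel₀ (T.al_ne _), one_smul,
      Finset.sum_const, Finset.card_univ]
    rw [← Nat.cast_smul_eq_nsmul k, smul_smul, inv_mul_cancel₀ hcard, one_smul]
  · rw [hY, map_smul, map_sum, smul_comm]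
    congr 1
    rw [Finset.smul_sum]
    refine Fintype.sum_equiv (Equiv.mulLeft h') _ _ fun h => ?_
    simp only [map_smul, Equiv.coe_mulLeft, smul_smul, T.al_mul, Subgroup.coe_mul, map_mul,
      Module.End.mul_apply]
    rw [← mul_assoc, inv_mul_cancel₀ (T.al_ne h'), one_mul]

theorem exists_functional (Y : M) (hY3 : (T.D ^ 3) Y = 0) (hY : T.A (T.A Y) = T.X)
    (hYH : ∀ h : T.H, ρ (h : G) Y = (T.al h)⁻¹ • Y) : ∃ μ : M →ₗ[k] k,
    (∀ v, μ ((T.D ^ 3) v) = 0) ∧ (∀ (h : T.H) v, μ (ρ (h : G) v) = T.al h * μ v) ∧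
      μ T.X = 1 ∧ μ (T.A Y) = 0 ∧ μ Y = 0 := by
  have : Fintype T.H := Fintype.ofFinite _
  have hcard : (Fintype.card T.H : k) ≠ 0 := by rw [← Nat.card_eq_fintype_card]; exact T.hcard
  set μ1 : M →ₗ[k] k := (Fintype.card T.H : k)⁻¹ •
    ∑ h : T.H, (T.al h)⁻¹ • T.μ0.comp (ρ (h : G)) with hμ1
  have h1app : ∀ v, μ1 v = (Fintype.card T.H : k)⁻¹ *
      ∑ h : T.H, (T.al h)⁻¹ * T.μ0 (ρ (h : G) v) := fun v => by
    simp [hμ1, LinearMap.sum_apply, smul_eq_mul]
  have h1D : ∀ v, μ1 ((T.D ^ 3) v) = 0 := fun v => by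
    rw [h1app, Finset.sum_eq_zero fun h _ => by rw [T.mu_D_of_equiv T.hμD h v, mul_zero], mul_zero]
  have h1X : μ1 T.X = 1 := by
    rw [h1app, Finset.sum_congr rfl fun h _ => show (T.al h)⁻¹ * T.μ0 (ρ (h : G) T.X) = 1 by
      rw [T.hXH, map_smul, T.hμX, smul_eq_mul, mul_one]; exact inv_mul_cancel₀ (T.al_ne h)]
    simp [inv_mul_cancel₀ hcard]
  have h1H : ∀ (h : T.H) v, μ1 (ρ (h : G) v) = T.al h * μ1 v := by
    intro h' v
    rw [h1app, h1app, ← mul_left_comm, Finset.mul_sum (a := T.al h')]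
    congr 1
    refine Fintype.sum_equiv (Equiv.mulRight h') _ _ fun h => ?_
    simp only [Equiv.coe_mulRight, T.al_mul, Subgroup.coe_mul, map_mul, Module.End.mul_apply, mul_inv]
    rw [show T.al h' * ((T.al h)⁻¹ * (T.al h')⁻¹ * T.μ0 (ρ (h : G) (ρ (h' : G) v))) =
      (T.al h' * (T.al h')⁻¹) * ((T.al h)⁻¹ * T.μ0 (ρ (h : G) (ρ (h' : G) v))) by ring,
      mul_inv_cancel₀ (T.al_ne h'), one_mul]
  have hAX : T.A T.X = 0 := by
    have : T.D T.X = 0 := T.hXfix
    simp [A, pow_two, Module.End.mul_apply, this]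
  set c := μ1 (T.A Y) with hc
  have hcal : ∀ h : T.H, c * T.al h = c := fun h => by
    have := (T.mu_A_equiv h2 h1D h1H h Y).1
    rw [hYH, map_smul, map_smul, smul_eq_mul, ← hc] at this
    rw [mul_comm]
    exact (eq_inv_mul_iff_mul_eq₀ (T.al_ne h)).1 this.symm
  set μ2 : M →ₗ[k] k := μ1 - c • μ1.comp T.A with hμ2
  have h2app : ∀ v, μ2 v = μ1 v - c * μ1 (T.A v) := fun v => by simp [hμ2, smul_eq_mul]
  have hAD : ∀ v, μ1 (T.A ((T.D ^ 3) v)) = 0 := fun v => by
    rw [← Module.End.mul_apply, show T.A * T.D ^ 3 = T.D ^ 3 * T.A by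
      rw [A, mul_sub, sub_mul, mul_smul_comm, smul_mul_assoc, ← pow_succ, ← pow_succ', ← pow_add, ← pow_add],
      Module.End.mul_apply, h1D]
  have h2D : ∀ v, μ2 ((T.D ^ 3) v) = 0 := fun v => by rw [h2app, h1D, hAD, mul_zero, sub_zero]
  have h2X : μ2 T.X = 1 := by rw [h2app, h1X, hAX, map_zero, mul_zero, sub_zero]
  have h2H : ∀ (h : T.H) v, μ2 (ρ (h : G) v) = T.al h * μ2 v := fun h v => by
    rw [h2app, h2app, h1H, (T.mu_A_equiv h2 h1D h1H h v).1]
    linear_combination (μ1 (T.A v)) * hcal h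
  have h2AY : μ2 (T.A Y) = 0 := by rw [h2app, hY, h1X, mul_one, sub_self]
  set b := μ2 Y with hb
  have hbal : ∀ h : T.H, b * (T.al h)⁻¹ = T.al h * b := fun h => by
    have := h2H h Y
    rw [hYH, map_smul, smul_eq_mul] at this
    rw [← this, mul_comm]
  refine ⟨μ2 - b • (μ2.comp (T.A * T.A)), fun v => ?_, fun h v => ?_, ?_, ?_, ?_⟩
  · simp only [LinearMap.sub_apply, LinearMap.smul_apply, LinearMap.comp_apply, h2D]
    rw [← Module.End.mul_apply, show T.A * T.A * T.D ^ 3 = T.D ^ 3 * (T.A * T.A) by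
      have hc : Commute (T.D ^ 3) T.A := by
        rw [A]
        exact ((Commute.refl T.D).pow_left 3).sub_right ((((Commute.refl T.D).pow_left 3).pow_right 2).smul_right _)
      exact (hc.mul_right hc).eq.symm, Module.End.mul_apply, h2D, smul_zero, sub_zero]
  · simp only [LinearMap.sub_apply, LinearMap.smul_apply, LinearMap.comp_apply, smul_eq_mul,
      Module.End.mul_apply]
    rw [h2H, (T.mu_A_equiv h2 h2D h2H h v).2]
    linear_combination (-μ2 (T.A (T.A v))) * hbal h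
  · simp only [LinearMap.sub_apply, LinearMap.smul_apply, LinearMap.comp_apply, Module.End.mul_apply,
      hAX, map_zero, smul_zero, sub_zero, h2X]
  · simp only [LinearMap.sub_apply, LinearMap.smul_apply, LinearMap.comp_apply, Module.End.mul_apply,
      hY, hAX, map_zero, smul_zero, sub_zero, h2AY]
  · simp only [LinearMap.sub_apply, LinearMap.smul_apply, LinearMap.comp_apply, Module.End.mul_apply,
      hY, h2X, smul_eq_mul, mul_one, hb, sub_self]

end TripleData

end Cfsg.Lib.HalfDeg
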